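import Cfsg.Agent.Lib.K11.GA
import Cfsg.Agent.S0144
import Cfsg.Agent.S0205
import Cfsg.Agent.S0904

/-! Sylow facts for the class-equation data. -/

set_option autoImplicit false

namespace H56.K

open Finset Subgroup

variable {G : Type*} [Group G] [Finite G]

namespace GD

omit [Finite G] in
theorem pg {u : G} {q : ℕ} (hu : orderOf u = q) : IsPGroup q (zpowers u) :=
  IsPGroup.of_card (n := 1) (by rw [Nat.card_zpowers, hu, pow_one])

omit [Finite G] in
theorem cent_zp (x : G) : centralizer (zpowers x : Set G) = centralizer {x} := by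
  rw [zpowers_eq_closure, centralizer_closure]

omit [Finite G] in
theorem cc_sub {H : Subgroup G} (u : H) : cc u = Nat.card (H ⊓ centralizer {(u : G)} : Subgroup G) := by
  rw [cc, ← card_map_of_injective (f := H.subtype) H.subtype_injective]
  congr 2
  ext x
  simp only [Subgroup.mem_map, Subgroup.mem_inf, mem_centralizer_singleton_iff]
  exact ⟨fun ⟨y, e, e'⟩ => e' ▸ ⟨y.2, congrArg Subtype.val e⟩, fun ⟨a, b⟩ => ⟨⟨x, a⟩, Subtype.ext b, rfl⟩⟩

theorem ex_center {q : ℕ} [Fact q.Prime] {Q : Subgroup G} (hQ : IsPGroup q Q) (h : q ∣ Nat.card Q) :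
    ∃ z ∈ Q, orderOf z = q ∧ Q ≤ centralizer {z} := by
  have hq : q.Prime := Fact.out
  have : Nontrivial Q := Finite.one_lt_card_iff_nontrivial.1 (hq.one_lt.trans_le (Nat.le_of_dvd Nat.card_pos h))
  have := hQ.center_nontrivial
  obtain ⟨k, hk⟩ := (hQ.to_subgroup (center Q)).exists_card_eq
  have h1 := Finite.one_lt_card (α := center Q)
  obtain ⟨z, hz⟩ := exists_prime_orderOf_dvd_card' (G := center Q) q
    (hk ▸ dvd_pow_self q (by rintro rfl; simp [hk] at h1))
  exact ⟨z.1, z.1.2, by rw [orderOf_coe, orderOf_coe, hz], fun y hy => mem_centralizer_singleton_iff.2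
    (congrArg Subtype.val (mem_center_iff.1 z.2 ⟨y, hy⟩))⟩

theorem ex_cc {q j : ℕ} (hq : q.Prime) (hd : q ^ (j + 1) ∣ Nat.card G) :
    ∃ u : G, orderOf u = q ∧ q ^ (j + 1) ∣ cc u := by
  have : Fact q.Prime := ⟨hq⟩
  obtain ⟨Q⟩ : Nonempty (Sylow q G) := inferInstance
  have h := Q.pow_dvd_card_of_pow_dvd_card hd
  obtain ⟨z, -, h1, h2⟩ := ex_center Q.isPGroup' ((dvd_pow_self q j.succ_ne_zero).trans h)
  exact ⟨z, h1, h.trans (card_dvd_of_le h2)⟩

theorem keyP {u : G} {q : ℕ} (hq : q.Prime) (hu : orderOf u = q) (h : q * q ∣ Nat.card G) : q * q ∣ cc u := by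
  have : Fact q.Prime := ⟨hq⟩
  obtain ⟨Q, hQ⟩ := (pg hu).exists_le_sylow
  rw [← pow_two] at h ⊢
  have h2 := Q.pow_dvd_card_of_pow_dvd_card h
  obtain ⟨z, hz, h3, h4⟩ := ex_center Q.isPGroup' ((dvd_pow_self q two_ne_zero).trans h2)
  by_cases hm : z ∈ zpowers u
  · rw [← cent_zp, eq_of_le_of_card_ge (zpowers_le_of_mem hm) (by rw [Nat.card_zpowers, Nat.card_zpowers, hu, h3]),
      cent_zp] at h4
    exact h2.trans (card_dvd_of_le h4)
  · obtain ⟨k, hk⟩ := (Q.isPGroup'.to_inf_left (K := centralizer {u})).exists_card_eq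
    refine Dvd.dvd.trans ?_ (card_dvd_of_le (inf_le_right (a := (Q : Subgroup G))))
    rw [hk]
    refine pow_dvd_pow q ?_
    by_contra hlt
    refine hm ((eq_of_le_of_card_ge (le_inf hQ (zpowers_le_of_mem (mem_centralizer_singleton_iff.2 rfl))) ?_).ge
      ⟨hz, mem_centralizer_singleton_iff.2 (mem_centralizer_singleton_iff.1 (h4 (hQ (mem_zpowers u)))).symm⟩)
    rw [hk, Nat.card_zpowers, hu]
    exact (Nat.pow_le_pow_right hq.pos (by omega)).trans_eq (pow_one q)

theorem syl {u : G} {q : ℕ} [Fact q.Prime] (hu : orderOf u = q) (h : ¬ q * q ∣ Nat.card G) :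
    ∃ P : Sylow q G, (P : Subgroup G) = zpowers u := by
  obtain ⟨P, hP⟩ := (pg hu).exists_le_sylow
  obtain ⟨k, hk⟩ := P.isPGroup'.exists_card_eq
  refine ⟨P, (eq_of_le_of_card_ge hP ?_).symm⟩
  rw [hk, Nat.card_zpowers, hu]
  refine (Nat.pow_le_pow_right (Fact.out : q.Prime).pos ?_).trans_eq (pow_one q)
  by_contra hlt
  exact h (pow_two q ▸ (pow_dvd_pow q (by omega)).trans (hk ▸ card_subgroup_dvd_card (P : Subgroup G)))

theorem rc_syl {u v : G} {q : ℕ} (hq : q.Prime) (hu : orderOf u = q) (hv : orderOf v = q)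
    (h : ¬ q * q ∣ Nat.card G) : ∃ g : G, g * u * g⁻¹ ∈ zpowers v := by
  have : Fact q.Prime := ⟨hq⟩
  obtain ⟨P, hP⟩ := syl hu h
  obtain ⟨Q, hQ⟩ := syl hv h
  obtain ⟨g, hg⟩ := MulAction.exists_smul_eq G P Q
  refine ⟨g, ?_⟩
  rw [← hQ, ← hg, Sylow.coe_subgroup_smul]
  exact smul_mem_pointwise_smul u (MulAut.conj g) _ (hP ▸ mem_zpowers u)

theorem eq_prod {n : ℕ} (h0 : n ≠ 0) : n = ∏ p ∈ n.primeFactors, p ^ n.factorization p :=
  (Nat.prod_factorization_pow_eq_self h0).symm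

end GD

open GD

variable {g : ℕ → G} {m : ℕ}

theorem Reps.sy (h : Reps g m) (x : ℕ) (hx : x < m) (q j : ℕ) (hq : Nat.Prime q)
    (hn : ¬ q ∣ orderOf (g x)) (hd : q ^ (j + 1) ∣ cc (g x)) :
    ∃ y < m, y ≠ x ∧ Pw (g y) (g x) ∧ q ^ (j + 1) ∣ cc (g y) := by
  obtain ⟨u, hu, hc⟩ := ex_cc (G := centralizer {g x}) hq hd
  rw [← orderOf_coe] at hu
  obtain ⟨h1, h2, h3⟩ := pw_mul (x := g x) (u := u) (mem_centralizer_singleton_iff.1 u.2).symm
    (hu ▸ (Nat.Prime.coprime_iff_not_dvd hq).2 hn)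
  have o := orderOf_pos (g x)
  have lt : orderOf (g x) < orderOf (g x * u) := by rw [h2, hu]; exact lt_mul_of_one_lt_left o hq.one_lt
  obtain ⟨y, hy, e⟩ := h.ex (g x * u) fun e => by
    have _ := hx
    rw [e, orderOf_one] at lt
    omega
  refine ⟨y, hy, ?_, h1.of_rc e (RC.refl _), ?_⟩
  · rintro rfl
    exact lt.ne' e.ord
  · rwa [← e.cc_eq, cc, h3, ← cc_sub]

theorem Reps.nl (h : Reps g m) (q j : ℕ) (hq : Nat.Prime q) (hd : q ^ (j + 1) ∣ Nat.card G) :
    ∃ y < m, q ^ (j + 1) ∣ cc (g y) := by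
  obtain ⟨u, hu, hc⟩ := ex_cc hq hd
  obtain ⟨y, hy, e⟩ := h.ex u fun e => hq.one_lt.ne (by rw [← hu, e, orderOf_one])
  exact ⟨y, hy, e.cc_eq ▸ hc⟩

theorem rc_of_twin {y y' z : G} {q : ℕ} (ho : orderOf y = orderOf y') (hq : Nat.Prime q)
    (hy : orderOf y = q * orderOf z) (hn : ¬ q ∣ orderOf z) (h1 : Pw y z) (h2 : Pw y' z)
    (hc : ¬ q * q ∣ cc y) : RC y y' := by
  have co := (Nat.Prime.coprime_iff_not_dvd hq).2 hn
  have e : orderOf y / orderOf z = q := by rw [hy, Nat.mul_div_cancel _ (orderOf_pos z)]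
  obtain ⟨u, c, ou, r⟩ := h1.decomp (e.symm ▸ co)
  obtain ⟨u', c', ou', r'⟩ := h2.decomp (by rw [← ho, e]; exact co)
  rw [e] at ou
  rw [← ho, e] at ou'
  let a : centralizer ({z} : Set G) := ⟨u, mem_centralizer_singleton_iff.2 c.symm⟩
  let a' : centralizer ({z} : Set G) := ⟨u', mem_centralizer_singleton_iff.2 c'.symm⟩
  have oa : orderOf a = q := (orderOf_coe a).symm.trans ou
  obtain ⟨k, hk⟩ := rc_syl hq oa ((orderOf_coe a').symm.trans ou') fun hd => hc (by
    rw [r.cc_eq, cc, (pw_mul c (ou.symm ▸ co)).2.2]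
    exact cc_sub a ▸ keyP hq oa hd)
  replace hk : (k : G) * u * (k : G)⁻¹ ∈ zpowers u' := by
    obtain ⟨i, hi⟩ := hk
    exact ⟨i, congrArg Subtype.val hi⟩
  have hz : z ∈ zpowers (z * u') := by
    refine zpowers_le_of_mem (pow_mem (mem_zpowers _) q) ?_
    rw [c'.mul_pow, ← ou', pow_orderOf_eq_one, mul_one, ou']
    exact mem_zpowers_pow_iff.2 co
  have hu : u' ∈ zpowers (z * u') := by simpa using mul_mem (inv_mem hz) (mem_zpowers (z * u'))
  refine r.trans (RC.trans ⟨k, eq_of_le_of_card_ge (zpowers_le_of_mem ?_) ?_⟩ r'.symm)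
  · rw [← conj_mul, mem_centralizer_singleton_iff.1 k.2, mul_inv_cancel_right]
    exact mul_mem hz (zpowers_le_of_mem hu hk)
  · rw [Nat.card_zpowers, Nat.card_zpowers, ← r'.ord, ← ho, r.ord]
    exact ((MulAut.conj (k : G)).orderOf_eq (z * u)).ge

theorem not_sq_dvd_card {y : G} (hp : Nat.Prime (orderOf y)) (hc : ¬ orderOf y * orderOf y ∣ cc y) :
    ¬ orderOf y * orderOf y ∣ Nat.card G := fun h => hc (keyP hp rfl h)

theorem sq_dvd_of_ee_one [IsSimpleGroup G] (hG : ¬ IsMulCommutative G) {y : G}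
    (hp : Nat.Prime (orderOf y)) (he : ee y = 1) : orderOf y * orderOf y ∣ cc y := by
  by_contra hc
  have : Fact (orderOf y).Prime := ⟨hp⟩
  obtain ⟨P, hP⟩ := syl rfl (not_sq_dvd_card hp hc)
  have hN : normalizer ((P : Subgroup G) : Set G) ≤ centralizer (P : Set G) := by
    refine (eq_of_le_of_card_ge (centralizer_le_normalizer _) ?_).ge
    have := cc_mul_ee y
    rw [he, mul_one, cc, nn, ← cent_zp, ← hP] at this
    exact this.ge
  have hc := MonoidHom.ker_transferSylow_isComplement' P hN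
  rcases (inferInstance : (MonoidHom.transferSylow P hN).ker.Normal).eq_bot_or_eq_top with e | e <;>
    rw [e, hP] at hc
  · have := isCyclic_iff_exists_zpowers_eq_top.2 ⟨y, isComplement'_bot_left.1 hc⟩
    exact hG IsCyclic.isMulCommutative
  · rw [isComplement'_top_left, zpowers_eq_bot] at hc
    exact hp.one_lt.ne' (orderOf_eq_one_iff.2 hc)

theorem exists_ord_ee {x : G} (hp : Nat.Prime (orderOf x)) : ∃ y : G, orderOf y = ee x := by
  have : IsCyclic (ZMod (Nat.card (zpowers x)))ˣ := by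
    rw [Nat.card_zpowers]
    exact ZMod.isCyclic_units_prime hp
  have : IsCyclic (MulAut (zpowers x)) := (IsCyclic.mulAutMulEquiv (zpowers x)).isCyclic.2 this
  obtain ⟨⟨_, n, rfl⟩, hn⟩ := IsCyclic.exists_ofOrder_eq_natCard (α := (zpowers x).normalizerMonoidHom.range)
  have h1 := card_mul_index (zpowers x).normalizerMonoidHom.ker
  rw [index_ker, normalizerMonoidHom_ker,
    Nat.card_congr (subgroupOfEquivOfLe (centralizer_le_normalizer _)).toEquiv, cent_zp, ← hn] at h1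
  have h2 := Nat.eq_of_mul_eq_mul_left (cc_pos x) (h1.trans (cc_mul_ee x).symm)
  rw [← h2, ← orderOf_coe]
  obtain ⟨j, hj⟩ := Pw.ex (n : G) (orderOf_coe n ▸ orderOf_map_dvd (zpowers x).normalizerMonoidHom n)
  exact ⟨_, hj⟩

theorem Reps.primes (h : Reps g m) :
    ((range m).image (fun i => orderOf (g i))).filter Nat.Prime = (Nat.card G).primeFactors := by
  ext p
  simp only [mem_filter, mem_image, Finset.mem_range, Nat.mem_primeFactors]
  refine ⟨fun ⟨⟨i, _, e⟩, hp⟩ => ⟨hp, e ▸ orderOf_dvd_natCard _, Nat.card_pos.ne'⟩, fun ⟨hp, hd, _⟩ => ⟨?_, hp⟩⟩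
  have : Fact p.Prime := ⟨hp⟩
  obtain ⟨u, hu⟩ := exists_prime_orderOf_dvd_card' p hd
  obtain ⟨y, hy, e⟩ := h.ex u fun e => hp.one_lt.ne (by rw [← hu, e, orderOf_one])
  exact ⟨y, hy, e.ord.symm.trans hu⟩

theorem three_le_primes [IsSimpleGroup G] (hG : ¬ IsMulCommutative G) :
    3 ≤ (Nat.card G).primeFactors.card ∧ 2 ∣ Nat.card G := by
  have ns : ¬ Group.IsSolvable G := fun h => hG ⟨⟨IsSimpleGroup.comm_iff_isSolvable.2 h⟩⟩
  refine ⟨?_, even_iff_two_dvd.1 (Nat.not_odd_iff_even.1 fun h => ns (Cfsg.Agent.S0205.result h))⟩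
  by_contra hlt
  have e := eq_prod (Nat.card_pos (α := G)).ne'
  have hp : ∀ p ∈ (Nat.card G).primeFactors, p.Prime := fun p => Nat.prime_of_mem_primeFactors
  obtain h | h | h : (Nat.card G).primeFactors.card = 0 ∨ (Nat.card G).primeFactors.card = 1 ∨
    (Nat.card G).primeFactors.card = 2 := by omega
  · rw [card_eq_zero.1 h] at e
    exact ns (Cfsg.Agent.S0144.result 2 2 0 0 Nat.prime_two Nat.prime_two e)
  · obtain ⟨p, h⟩ := card_eq_one.1 h
    rw [h] at e hp
    rw [prod_singleton] at e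
    exact ns (Cfsg.Agent.S0144.result p 2 _ 0 (hp p (by simp)) Nat.prime_two (e.trans (mul_one _).symm))
  · obtain ⟨p, q, hpq, h⟩ := card_eq_two.1 h
    rw [h] at e hp
    rw [prod_pair hpq] at e
    exact ns (Cfsg.Agent.S0144.result p q _ _ (hp p (by simp)) (hp q (by simp)) e)

theorem cc_eq_of_three_primes [IsSimpleGroup G] (h3 : (Nat.card G).primeFactors.card = 3) {x : G}
    (hp : Nat.Prime (orderOf x)) (hc : ¬ orderOf x * orderOf x ∣ cc x) : cc x = orderOf x := by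
  have : Fact (orderOf x).Prime := ⟨hp⟩
  have hn := not_sq_dvd_card hp hc
  obtain ⟨P, hP⟩ := syl rfl hn
  have h0 := (Nat.card_pos (α := G)).ne'
  have hm : orderOf x ∈ (Nat.card G).primeFactors := Nat.mem_primeFactors.2 ⟨hp, orderOf_dvd_natCard x, h0⟩
  obtain ⟨p, q, hpq, h⟩ := card_eq_two.1 (show ((Nat.card G).primeFactors.erase (orderOf x)).card = 2 by
    rw [card_erase_of_mem hm, h3])
  have mp : p ∈ (Nat.card G).primeFactors.erase (orderOf x) := by simp [h]
  have mq : q ∈ (Nat.card G).primeFactors.erase (orderOf x) := by simp [h]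
  have e := eq_prod h0
  have f : (Nat.card G).factorization (orderOf x) = 1 := by
    have a := (hp.dvd_iff_one_le_factorization h0).1 (orderOf_dvd_natCard x)
    have b := mt (hp.pow_dvd_iff_le_factorization (k := 2) h0).2 (pow_two (orderOf x) ▸ hn)
    omega
  rw [← prod_erase_mul _ _ hm, h, prod_pair hpq, f, pow_one] at e
  have := Cfsg.Agent.S0904.result p q _ _ _ (Nat.prime_of_mem_primeFactors (mem_of_mem_erase mp))
    (Nat.prime_of_mem_primeFactors (mem_of_mem_erase mq)) hpq (ne_of_mem_erase mp) (ne_of_mem_erase mq) e P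
  rw [cc, ← cent_zp, ← Nat.card_zpowers, ← hP]
  exact congrArg (fun H : Subgroup G => Nat.card H) this

end H56.K
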