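import Cfsg.Agent.Lib.K11.Defs
import Cfsg.Agent.Lib.SN.ClassNum
import Cfsg.Agent.S0243
import Cfsg.Agent.S0253
import Cfsg.Agent.S0254
import Cfsg.Agent.S0494
import Cfsg.Agent.S0495
import Cfsg.Agent.S0496
import Cfsg.Agent.S0497
import Cfsg.Agent.S0498
import Cfsg.Agent.S1011
import Cfsg.Agent.S2331
import Cfsg.Agent.S2480
import Cfsg.Agent.S3280

/-! Class numbers of the small simple groups. -/

set_option autoImplicit false

namespace H56.K

open Finset

variable {G : Type*} [Group G] [Finite G]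

omit [Finite G] in
theorem card_classes_congr {H : Type*} [Group H] (e : G ≃* H) :
    Nat.card (ConjClasses G) = Nat.card (ConjClasses H) :=
  Nat.card_congr ⟨ConjClasses.map e.toMonoidHom, ConjClasses.map e.symm.toMonoidHom,
    by rintro ⟨x⟩; exact congrArg ConjClasses.mk (e.symm_apply_apply x),
    by rintro ⟨x⟩; exact congrArg ConjClasses.mk (e.apply_symm_apply x)⟩

namespace GF

theorem types {m : Multiset ℕ} (h1 : m.sum ≤ 7) (h2 : ∀ a ∈ m, 2 ≤ a) (h3 : Even (m.sum + m.card)) :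
    m = 0 ∨ m = {3} ∨ m = {5} ∨ m = {7} ∨ m = {2, 2} ∨ m = {2, 4} ∨ m = {3, 3} ∨ m = {2, 2, 3} := by
  have hle : m.card • 2 ≤ m.sum := Multiset.card_nsmul_le_sum h2
  rw [smul_eq_mul] at hle
  rw [Nat.even_iff] at h3
  rcases (by omega : m.card = 0 ∨ m.card = 1 ∨ m.card = 2 ∨ m.card = 3) with hc | hc | hc | hc
  · exact .inl (Multiset.card_eq_zero.mp hc)
  · obtain ⟨a, rfl⟩ := Multiset.card_eq_one.mp hc
    have := h2 a (by simp)
    simp only [Multiset.sum_singleton, Multiset.card_singleton] at h1 h3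
    interval_cases a <;> first | omega | decide
  · obtain ⟨a, b, rfl⟩ := Multiset.card_eq_two.mp hc
    have ha := h2 a (by simp)
    have hb := h2 b (by simp)
    simp only [Multiset.insert_eq_cons, Multiset.sum_cons, Multiset.sum_singleton, Multiset.card_cons,
      Multiset.card_singleton] at h1 h3
    rcases (by omega : (a = 2 ∧ b = 2) ∨ (a = 2 ∧ b = 4) ∨ (a = 4 ∧ b = 2) ∨ (a = 3 ∧ b = 3)) with
      ⟨rfl, rfl⟩ | ⟨rfl, rfl⟩ | ⟨rfl, rfl⟩ | ⟨rfl, rfl⟩ <;> decide
  · obtain ⟨a, b, c, rfl⟩ := Multiset.card_eq_three.mp hc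
    have ha := h2 a (by simp)
    have hb := h2 b (by simp)
    have hc := h2 c (by simp)
    simp only [Multiset.insert_eq_cons, Multiset.sum_cons, Multiset.sum_singleton, Multiset.card_cons,
      Multiset.card_singleton] at h1 h3
    rcases (by omega : (a = 2 ∧ b = 2 ∧ c = 3) ∨ (a = 2 ∧ b = 3 ∧ c = 2) ∨ (a = 3 ∧ b = 2 ∧ c = 2)) with
      ⟨rfl, rfl, rfl⟩ | ⟨rfl, rfl, rfl⟩ | ⟨rfl, rfl, rfl⟩ <;> decide

omit [Finite G] in
theorem psl_le {F : Type*} [Field F] [Fintype F] {q : ℕ} (hF : Fintype.card F = q) (o : Nat.gcd 2 (q - 1) = 2)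
    (e : Nonempty (G ≃* Matrix.ProjectiveSpecialLinearGroup (Fin 2) F)) : 2 * Nat.card (ConjClasses G) ≤ q + 5 := by
  obtain ⟨e⟩ := e
  simpa [hF, o, card_classes_congr e] using (Cfsg.Agent.S2480.result (F := F) 2 le_rfl).2

theorem card_psl7 {F : Type*} [Field F] [Fintype F] (hF : Fintype.card F = 7) :
    Nat.card (Matrix.ProjectiveSpecialLinearGroup (Fin 2) F) = 168 := by
  have := Cfsg.Agent.S0243.result hF 2 le_rfl
  simp [Fin.prod_univ_two] at this
  omega

end GF

open Equiv Equiv.Perm in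
theorem alt7_classes : Nat.card (ConjClasses (alternatingGroup (Fin 7))) ≤ 9 := by
  classical
  let r : Multiset ℕ → alternatingGroup (Fin 7) :=
    Function.invFun fun x : alternatingGroup (Fin 7) => x.1.cycleType
  have hr : ∀ x : alternatingGroup (Fin 7), IsConj (r x.1.cycleType).1 x.1 := fun x =>
    isConj_iff_cycleType_eq.mpr
      (Function.invFun_eq (f := fun x : alternatingGroup (Fin 7) => x.1.cycleType) ⟨x, rfl⟩)
  obtain ⟨y, hy⟩ : ∃ y : alternatingGroup (Fin 7), ∀ x : alternatingGroup (Fin 7), x.1.cycleType = {7} →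
      ¬ IsConj (r {7}) x → IsConj y x := by
    by_cases h : ∃ y : alternatingGroup (Fin 7), y.1.cycleType = {7} ∧ ¬ IsConj (r {7}) y
    · obtain ⟨y, h1, h2⟩ := h
      exact ⟨y, fun x h3 h4 => H5.SN.isConj_alt_three (h1 ▸ hr y) (h3 ▸ hr x) h2 h4⟩
    · exact ⟨1, fun x h3 h4 => (h ⟨x, h3, h4⟩).elim⟩
  refine (Nat.card_le_card_of_surjective (fun i : Fin 9 => ConjClasses.mk
    (![y, r 0, r {3}, r {5}, r {7}, r {2, 2}, r {2, 4}, r {3, 3}, r {2, 2, 3}] i)) ?_).trans (by simp)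
  rintro ⟨x⟩
  have h1 : x.1.cycleType.sum ≤ 7 := by simpa using x.1.sum_cycleType_le
  have h2 := GF.types h1 (fun a => two_le_of_mem_cycleType) (by
    have := mem_alternatingGroup.1 x.2
    rwa [sign_of_cycleType, neg_one_pow_eq_one_iff_even (by decide)] at this)
  by_cases h : IsConj (r x.1.cycleType) x
  · have h := ConjClasses.mk_eq_mk_iff_isConj.2 h
    rcases h2 with e | e | e | e | e | e | e | e <;> rw [e] at h
    exacts [⟨1, h⟩, ⟨2, h⟩, ⟨3, h⟩, ⟨4, h⟩, ⟨5, h⟩, ⟨6, h⟩, ⟨7, h⟩, ⟨8, h⟩]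
  · obtain ⟨k1, k2, k3⟩ := centralizer_le_alternating_iff.mp
      (show Subgroup.centralizer {x.1} ≤ alternatingGroup (Fin 7) from fun c hc => by
        by_contra hc'
        exact h (H72.isConj_alt_of_odd_commute (hr x).symm ((Int.units_eq_one_or _).resolve_left hc')
          (Subgroup.mem_centralizer_singleton_iff.mp hc)).symm)
    have e : x.1.cycleType = {7} := by
      have k4 := k3 3
      rcases h2 with e | e | e | e | e | e | e | e <;> rw [e] at k1 k2 k4 ⊢ <;> revert k1 k2 k4 <;> decide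
    exact ⟨0, ConjClasses.mk_eq_mk_iff_isConj.2 (hy x e (e ▸ h))⟩

theorem small_classes [IsSimpleGroup G] (hG : ¬ IsMulCommutative G) (hn : Nat.card G ≤ 1092) :
    Nat.card (ConjClasses G) ≤ 9 ∧ (Nat.card (ConjClasses G) = 9 →
      (∃ (F : Type) (_ : Field F) (_ : Fintype F), Fintype.card F = 8 ∧
        Nonempty (G ≃* Matrix.ProjectiveSpecialLinearGroup (Fin 2) F)) ∨
      Nonempty (G ≃* Matrix.ProjectiveSpecialLinearGroup (Fin 2) (ZMod 13))) := by
  have : Fact (Nat.Prime 5) := ⟨by norm_num⟩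
  have : Fact (Nat.Prime 7) := ⟨by norm_num⟩
  have : Fact (Nat.Prime 11) := ⟨by norm_num⟩
  have : Fact (Nat.Prime 13) := ⟨by norm_num⟩
  rcases Cfsg.Agent.S0496.result hG hn with h | h | h | h | h | h
  · obtain ⟨e⟩ := Cfsg.Agent.S0494.result h
    obtain ⟨e'⟩ := Cfsg.Agent.S0253.result (ZMod.card 5)
    have := GF.psl_le (ZMod.card 5) rfl ⟨e.trans e'.symm⟩
    exact ⟨by omega, by omega⟩
  · have := GF.psl_le (ZMod.card 7) rfl (Cfsg.Agent.S0495.result h (ZMod.card 7))
    exact ⟨by omega, by omega⟩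
  · let _ := Fintype.ofFinite (GaloisField 3 2)
    have hF : Fintype.card (GaloisField 3 2) = 9 := by
      rw [← Nat.card_eq_fintype_card, GaloisField.card 3 2 (by decide)]; rfl
    obtain ⟨e⟩ := Cfsg.Agent.S0497.result h
    obtain ⟨e'⟩ := Cfsg.Agent.S0254.result hF
    have := GF.psl_le hF rfl ⟨e.trans e'.symm⟩
    exact ⟨by omega, by omega⟩
  · let _ := Fintype.ofFinite (GaloisField 2 3)
    have hF : Fintype.card (GaloisField 2 3) = 8 := by
      rw [← Nat.card_eq_fintype_card, GaloisField.card 2 3 (by decide)]; rfl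
    obtain ⟨e⟩ := Cfsg.Agent.S1011.result h hF
    refine ⟨?_, fun _ => .inl ⟨_, _, _, hF, ⟨e⟩⟩⟩
    rw [card_classes_congr e]
    exact (Nat.card_le_card_of_surjective _ (ConjClasses.map_surjective (QuotientGroup.mk'_surjective _))).trans
      ((Cfsg.Agent.S2331.result (F := GaloisField 2 3)).trans (by rw [hF])).le
  · have := GF.psl_le (ZMod.card 11) rfl (Cfsg.Agent.S0498.result 11 (.inl rfl) (by rw [h]; rfl) (ZMod.card 11))
    exact ⟨by omega, by omega⟩
  · have e := Cfsg.Agent.S0498.result 13 (.inr rfl) (by rw [h]; rfl) (ZMod.card 13)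
    have := GF.psl_le (ZMod.card 13) rfl e
    exact ⟨by omega, fun _ => .inr e⟩

theorem small_cent [IsSimpleGroup G] (hG : ¬ IsMulCommutative G) (hn : 1093 ≤ Nat.card G) {x : G}
    (hx : cc x ≤ 4) : Nonempty (G ≃* alternatingGroup (Fin 7)) := by
  rcases Cfsg.Agent.S3280.result (fun h => hG IsCyclic.isMulCommutative) x hx with
    ⟨⟨e⟩⟩ | ⟨⟨e⟩⟩ | h | ⟨F, _, _, hF, ⟨e⟩⟩
  · rw [Nat.card_congr e.toEquiv, nat_card_alternatingGroup] at hn
    simp [Nat.factorial] at hn
  · rw [Nat.card_congr e.toEquiv, nat_card_alternatingGroup] at hn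
    simp [Nat.factorial] at hn
  · exact h
  · have := GF.card_psl7 hF
    rw [Nat.card_congr e.toEquiv] at hn
    omega

end H56.K
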