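import Cfsg.Agent.Lib.K11.S1c
import Cfsg.Agent.Lib.K11.R10x0
import Cfsg.Agent.Lib.K11.R10x1
import Cfsg.Agent.Lib.K11.R10x2

/-!
The parts of the search put together, 10 classes.
-/

namespace H56.K.R10

theorem c0 : PP 10 [(16, 8, 0)] := PP.of_run 95652 r0
theorem c1 : PP 10 [(32, 4, 0), (16, 8, 4)] := PP.of_run 95652 r1
theorem c2 : PP 10 [(32, 4, 2), (16, 8, 4)] := PP.of_run 95652 r2
theorem c3 : PP 10 [(32, 4, 1), (16, 8, 4)] := PP.of_run 95652 r3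
theorem c4 : PP 10 [(32, 8, 3), (16, 8, 4)] := PP.of_run 95652 r4
theorem c5 : PP 10 [(64, 2, 0), (32, 16, 7), (16, 8, 4)] := PP.of_run 95652 r5
theorem c6 : PP 10 [(64, 2, 1), (32, 16, 7), (16, 8, 4)] := PP.of_run 95652 r6
theorem c7 : PP 10 [(32, 16, 15), (16, 8, 4)] := PP.of_run 95652 r7
theorem c8 : PP 10 [(32, 4, 0), (16, 8, 2)] := PP.of_run 95652 r8
theorem c9 : PP 10 [(32, 4, 2), (16, 8, 2)] := PP.of_run 95652 r9
theorem c10 : PP 10 [(32, 4, 1), (16, 8, 2)] := PP.of_run 95652 r10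
theorem c11 : PP 10 [(32, 4, 3), (16, 8, 2)] := PP.of_run 95652 r11
theorem c12 : PP 10 [(16, 8, 6)] := PP.of_run 95652 r12
theorem c13 : PP 10 [(16, 8, 1)] := PP.of_run 95652 r13
theorem c14 : PP 10 [(32, 2, 0), (16, 8, 5)] := PP.of_run 95652 r14
theorem c15 : PP 10 [(32, 4, 1), (16, 8, 5)] := PP.of_run 95652 r15
theorem c16 : PP 10 [(32, 8, 3), (16, 8, 5)] := PP.of_run 95652 r16
theorem c17 : PP 10 [(32, 8, 7), (16, 8, 5)] := PP.of_run 95652 r17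
theorem c18 : PP 10 [(32, 4, 0), (16, 4, 3)] := PP.of_run 95652 r18
theorem c19 : PP 10 [(32, 8, 2), (16, 4, 3)] := PP.of_run 95652 r19
theorem c20 : PP 10 [(32, 16, 6), (16, 4, 3)] := PP.of_run 95652 r20
theorem c21 : PP 10 [(32, 16, 14), (16, 4, 3)] := PP.of_run 95652 r21
theorem c22 : PP 10 [(32, 16, 1), (16, 4, 3)] := PP.of_run 95652 r22
theorem c23 : PP 10 [(32, 16, 9), (16, 4, 3)] := PP.of_run 95652 r23
theorem c24 : PP 10 [(32, 8, 5), (16, 4, 3)] := PP.of_run 95652 r24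
theorem c25 : PP 10 [(32, 8, 3), (16, 4, 3)] := PP.of_run 95652 r25
theorem c26 : PP 10 [(32, 32, 7), (16, 4, 3)] := PP.of_run 95652 r26
theorem c27 : PP 10 [(32, 32, 23), (16, 4, 3)] := PP.of_run 95652 r27
theorem c28 : PP 10 [(32, 16, 15), (16, 4, 3)] := PP.of_run 95652 r28

theorem d1 : PP 10 [(32, 2, 0), (16, 8, 4)] := PP.split c1 c2
theorem d2 : PP 10 [(64, 1, 0), (32, 16, 7), (16, 8, 4)] := PP.split c5 c6
theorem d3 : PP 10 [(32, 16, 7), (16, 8, 4)] := PP.deep 64 d2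
theorem d4 : PP 10 [(32, 8, 7), (16, 8, 4)] := PP.split d3 c7
theorem d5 : PP 10 [(32, 4, 3), (16, 8, 4)] := PP.split c4 d4
theorem d6 : PP 10 [(32, 2, 1), (16, 8, 4)] := PP.split c3 d5
theorem d7 : PP 10 [(32, 1, 0), (16, 8, 4)] := PP.split d1 d6
theorem d8 : PP 10 [(16, 8, 4)] := PP.deep 32 d7
theorem d9 : PP 10 [(16, 4, 0)] := PP.split c0 d8
theorem d10 : PP 10 [(32, 2, 0), (16, 8, 2)] := PP.split c8 c9
theorem d11 : PP 10 [(32, 2, 1), (16, 8, 2)] := PP.split c10 c11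
theorem d12 : PP 10 [(32, 1, 0), (16, 8, 2)] := PP.split d10 d11
theorem d13 : PP 10 [(16, 8, 2)] := PP.deep 32 d12
theorem d14 : PP 10 [(16, 4, 2)] := PP.split d13 c12
theorem d15 : PP 10 [(16, 2, 0)] := PP.split d9 d14
theorem d16 : PP 10 [(32, 4, 3), (16, 8, 5)] := PP.split c16 c17
theorem d17 : PP 10 [(32, 2, 1), (16, 8, 5)] := PP.split c15 d16
theorem d18 : PP 10 [(32, 1, 0), (16, 8, 5)] := PP.split c14 d17
theorem d19 : PP 10 [(16, 8, 5)] := PP.deep 32 d18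
theorem d20 : PP 10 [(16, 4, 1)] := PP.split c13 d19
theorem d21 : PP 10 [(32, 8, 6), (16, 4, 3)] := PP.split c20 c21
theorem d22 : PP 10 [(32, 4, 2), (16, 4, 3)] := PP.split c19 d21
theorem d23 : PP 10 [(32, 2, 0), (16, 4, 3)] := PP.split c18 d22
theorem d24 : PP 10 [(32, 8, 1), (16, 4, 3)] := PP.split c22 c23
theorem d25 : PP 10 [(32, 4, 1), (16, 4, 3)] := PP.split d24 c24
theorem d26 : PP 10 [(32, 16, 7), (16, 4, 3)] := PP.split c26 c27
theorem d27 : PP 10 [(32, 8, 7), (16, 4, 3)] := PP.split d26 c28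
theorem d28 : PP 10 [(32, 4, 3), (16, 4, 3)] := PP.split c25 d27
theorem d29 : PP 10 [(32, 2, 1), (16, 4, 3)] := PP.split d25 d28
theorem d30 : PP 10 [(32, 1, 0), (16, 4, 3)] := PP.split d23 d29
theorem d31 : PP 10 [(16, 4, 3)] := PP.deep 32 d30
theorem d32 : PP 10 [(16, 2, 1)] := PP.split d20 d31
theorem d33 : PP 10 [(16, 1, 0)] := PP.split d15 d32
theorem d34 : PP 10 [] := PP.deep 16 d33

theorem all : PP 10 [] := d34

end H56.K.R10
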