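import Cfsg.Agent.Lib.K11.Eng

/-!
Kernel run of a part of the search, 11 classes.
-/

set_option maxRecDepth 100000
set_option Elab.async false

namespace H56.K.R11

theorem r53 : run 11 100320 (okl [(64, 8, 0), (32, 16, 7), (16, 16, 4)]) = true := by
  decide +kernel
theorem r54 : run 11 100320 (okl [(64, 128, 4), (32, 16, 7), (16, 16, 4)]) = true := by
  decide +kernel
theorem r55 : run 11 100320 (okl [(64, 128, 68), (32, 16, 7), (16, 16, 4)]) = true := by
  decide +kernel
theorem r56 : run 11 100320 (okl [(64, 64, 36), (32, 16, 7), (16, 16, 4)]) = true := by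
  decide +kernel
theorem r57 : run 11 100320 (okl [(64, 32, 20), (32, 16, 7), (16, 16, 4)]) = true := by
  decide +kernel
theorem r58 : run 11 100320 (okl [(64, 16, 12), (32, 16, 7), (16, 16, 4)]) = true := by
  decide +kernel
theorem r59 : run 11 100320 (okl [(64, 4, 2), (32, 16, 7), (16, 16, 4)]) = true := by
  decide +kernel
theorem r60 : run 11 100320 (okl [(64, 4, 1), (32, 16, 7), (16, 16, 4)]) = true := by
  decide +kernel
theorem r61 : run 11 100320 (okl [(128, 2, 0), (64, 128, 3), (32, 16, 7), (16, 16, 4)]) = true := by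
  decide +kernel
theorem r62 : run 11 100320 (okl [(128, 8, 1), (64, 128, 3), (32, 16, 7), (16, 16, 4)]) = true := by
  decide +kernel
theorem r63 : run 11 100320 (okl [(128, 32, 5), (64, 128, 3), (32, 16, 7), (16, 16, 4)]) = true := by
  decide +kernel
theorem r64 : run 11 100320 (okl [(256, 2, 0), (128, 256, 21), (64, 128, 3), (32, 16, 7), (16, 16, 4)]) = true := by
  decide +kernel
theorem r65 : run 11 100320 (okl [(256, 4, 1), (128, 256, 21), (64, 128, 3), (32, 16, 7), (16, 16, 4)]) = true := by
  decide +kernel
theorem r66 : run 11 100320 (okl [(256, 4, 3), (128, 256, 21), (64, 128, 3), (32, 16, 7), (16, 16, 4)]) = true := by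
  decide +kernel
theorem r67 : run 11 100320 (okl [(128, 256, 149), (64, 128, 3), (32, 16, 7), (16, 16, 4)]) = true := by
  decide +kernel
theorem r68 : run 11 100320 (okl [(128, 128, 85), (64, 128, 3), (32, 16, 7), (16, 16, 4)]) = true := by
  decide +kernel
theorem r69 : run 11 100320 (okl [(128, 64, 53), (64, 128, 3), (32, 16, 7), (16, 16, 4)]) = true := by
  decide +kernel
theorem r70 : run 11 100320 (okl [(128, 16, 13), (64, 128, 3), (32, 16, 7), (16, 16, 4)]) = true := by
  decide +kernel
theorem r71 : run 11 100320 (okl [(128, 4, 3), (64, 128, 3), (32, 16, 7), (16, 16, 4)]) = true := by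
  decide +kernel
theorem r72 : run 11 100320 (okl [(64, 128, 67), (32, 16, 7), (16, 16, 4)]) = true := by
  decide +kernel
theorem r73 : run 11 100320 (okl [(64, 64, 35), (32, 16, 7), (16, 16, 4)]) = true := by
  decide +kernel
theorem r74 : run 11 100320 (okl [(64, 32, 19), (32, 16, 7), (16, 16, 4)]) = true := by
  decide +kernel
theorem r75 : run 11 100320 (okl [(64, 16, 11), (32, 16, 7), (16, 16, 4)]) = true := by
  decide +kernel
theorem r76 : run 11 100320 (okl [(64, 16, 7), (32, 16, 7), (16, 16, 4)]) = true := by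
  decide +kernel
theorem r77 : run 11 100320 (okl [(128, 2, 0), (64, 16, 15), (32, 16, 7), (16, 16, 4)]) = true := by
  decide +kernel
theorem r78 : run 11 100320 (okl [(128, 64, 1), (64, 16, 15), (32, 16, 7), (16, 16, 4)]) = true := by
  decide +kernel
theorem r79 : run 11 100320 (okl [(128, 128, 33), (64, 16, 15), (32, 16, 7), (16, 16, 4)]) = true := by
  decide +kernel
theorem r80 : run 11 100320 (okl [(256, 2, 0), (128, 128, 97), (64, 16, 15), (32, 16, 7), (16, 16, 4)]) = true := by
  decide +kernel
theorem r81 : run 11 100320 (okl [(256, 2, 1), (128, 128, 97), (64, 16, 15), (32, 16, 7), (16, 16, 4)]) = true := by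
  decide +kernel
theorem r82 : run 11 100320 (okl [(128, 32, 17), (64, 16, 15), (32, 16, 7), (16, 16, 4)]) = true := by
  decide +kernel

end H56.K.R11
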