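import Cfsg.Agent.Lib.K11.S1c
import Cfsg.Agent.Lib.K11.R11x0
import Cfsg.Agent.Lib.K11.R11x1
import Cfsg.Agent.Lib.K11.R11x2
import Cfsg.Agent.Lib.K11.R11x3
import Cfsg.Agent.Lib.K11.R11x4
import Cfsg.Agent.Lib.K11.R11x5
import Cfsg.Agent.Lib.K11.R11x6
import Cfsg.Agent.Lib.K11.R11x7
import Cfsg.Agent.Lib.K11.R11x8
import Cfsg.Agent.Lib.K11.R11x9
import Cfsg.Agent.Lib.K11.R11x10
import Cfsg.Agent.Lib.K11.R11x11
import Cfsg.Agent.Lib.K11.R11x12
import Cfsg.Agent.Lib.K11.R11x13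
import Cfsg.Agent.Lib.K11.R11x14
import Cfsg.Agent.Lib.K11.R11x15
import Cfsg.Agent.Lib.K11.R11x16
import Cfsg.Agent.Lib.K11.R11x17
import Cfsg.Agent.Lib.K11.R11x18
import Cfsg.Agent.Lib.K11.R11x19
import Cfsg.Agent.Lib.K11.R11x20
import Cfsg.Agent.Lib.K11.R11x21
import Cfsg.Agent.Lib.K11.R11x22
import Cfsg.Agent.Lib.K11.R11x23
import Cfsg.Agent.Lib.K11.R11x24
import Cfsg.Agent.Lib.K11.R11x25
import Cfsg.Agent.Lib.K11.R11x26
import Cfsg.Agent.Lib.K11.R11x27
import Cfsg.Agent.Lib.K11.R11x28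

/-!
The parts of the search put together, 11 classes.
-/

namespace H56.K.R11

theorem c0 : PP 11 [(32, 32, 0), (16, 8, 0)] := PP.of_run 100320 r0
theorem c1 : PP 11 [(32, 32, 16), (16, 8, 0)] := PP.of_run 100320 r1
theorem c2 : PP 11 [(32, 16, 8), (16, 8, 0)] := PP.of_run 100320 r2
theorem c3 : PP 11 [(32, 16, 4), (16, 8, 0)] := PP.of_run 100320 r3
theorem c4 : PP 11 [(32, 16, 12), (16, 8, 0)] := PP.of_run 100320 r4
theorem c5 : PP 11 [(32, 8, 2), (16, 8, 0)] := PP.of_run 100320 r5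
theorem c6 : PP 11 [(32, 64, 6), (16, 8, 0)] := PP.of_run 100320 r6
theorem c7 : PP 11 [(32, 128, 38), (16, 8, 0)] := PP.of_run 100320 r7
theorem c8 : PP 11 [(64, 2, 0), (32, 128, 102), (16, 8, 0)] := PP.of_run 100320 r8
theorem c9 : PP 11 [(64, 4, 1), (32, 128, 102), (16, 8, 0)] := PP.of_run 100320 r9
theorem c10 : PP 11 [(64, 4, 3), (32, 128, 102), (16, 8, 0)] := PP.of_run 100320 r10
theorem c11 : PP 11 [(32, 32, 22), (16, 8, 0)] := PP.of_run 100320 r11
theorem c12 : PP 11 [(32, 16, 14), (16, 8, 0)] := PP.of_run 100320 r12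
theorem c13 : PP 11 [(32, 16, 1), (16, 8, 0)] := PP.of_run 100320 r13
theorem c14 : PP 11 [(32, 32, 9), (16, 8, 0)] := PP.of_run 100320 r14
theorem c15 : PP 11 [(32, 32, 25), (16, 8, 0)] := PP.of_run 100320 r15
theorem c16 : PP 11 [(32, 8, 5), (16, 8, 0)] := PP.of_run 100320 r16
theorem c17 : PP 11 [(32, 16, 3), (16, 8, 0)] := PP.of_run 100320 r17
theorem c18 : PP 11 [(32, 32, 11), (16, 8, 0)] := PP.of_run 100320 r18
theorem c19 : PP 11 [(32, 32, 27), (16, 8, 0)] := PP.of_run 100320 r19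
theorem c20 : PP 11 [(32, 16, 7), (16, 8, 0)] := PP.of_run 100320 r20
theorem c21 : PP 11 [(32, 32, 15), (16, 8, 0)] := PP.of_run 100320 r21
theorem c22 : PP 11 [(32, 128, 31), (16, 8, 0)] := PP.of_run 100320 r22
theorem c23 : PP 11 [(64, 4, 0), (32, 128, 95), (16, 8, 0)] := PP.of_run 100320 r23
theorem c24 : PP 11 [(64, 4, 2), (32, 128, 95), (16, 8, 0)] := PP.of_run 100320 r24
theorem c25 : PP 11 [(64, 2, 1), (32, 128, 95), (16, 8, 0)] := PP.of_run 100320 r25
theorem c26 : PP 11 [(32, 64, 63), (16, 8, 0)] := PP.of_run 100320 r26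
theorem c27 : PP 11 [(32, 16, 0), (16, 16, 4)] := PP.of_run 100320 r27
theorem c28 : PP 11 [(64, 2, 0), (32, 16, 8), (16, 16, 4)] := PP.of_run 100320 r28
theorem c29 : PP 11 [(64, 2, 1), (32, 16, 8), (16, 16, 4)] := PP.of_run 100320 r29
theorem c30 : PP 11 [(32, 16, 4), (16, 16, 4)] := PP.of_run 100320 r30
theorem c31 : PP 11 [(64, 8, 0), (32, 32, 12), (16, 16, 4)] := PP.of_run 100320 r31
theorem c32 : PP 11 [(64, 16, 4), (32, 32, 12), (16, 16, 4)] := PP.of_run 100320 r32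
theorem c33 : PP 11 [(128, 2, 0), (64, 16, 12), (32, 32, 12), (16, 16, 4)] := PP.of_run 100320 r33
theorem c34 : PP 11 [(128, 2, 1), (64, 16, 12), (32, 32, 12), (16, 16, 4)] := PP.of_run 100320 r34
theorem c35 : PP 11 [(64, 4, 2), (32, 32, 12), (16, 16, 4)] := PP.of_run 100320 r35
theorem c36 : PP 11 [(64, 2, 1), (32, 32, 12), (16, 16, 4)] := PP.of_run 100320 r36
theorem c37 : PP 11 [(32, 32, 28), (16, 16, 4)] := PP.of_run 100320 r37
theorem c38 : PP 11 [(32, 4, 2), (16, 16, 4)] := PP.of_run 100320 r38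
theorem c39 : PP 11 [(32, 4, 1), (16, 16, 4)] := PP.of_run 100320 r39
theorem c40 : PP 11 [(32, 16, 3), (16, 16, 4)] := PP.of_run 100320 r40
theorem c41 : PP 11 [(64, 4, 0), (32, 16, 11), (16, 16, 4)] := PP.of_run 100320 r41
theorem c42 : PP 11 [(64, 4, 2), (32, 16, 11), (16, 16, 4)] := PP.of_run 100320 r42
theorem c43 : PP 11 [(64, 4, 1), (32, 16, 11), (16, 16, 4)] := PP.of_run 100320 r43
theorem c44 : PP 11 [(64, 8, 3), (32, 16, 11), (16, 16, 4)] := PP.of_run 100320 r44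
theorem c45 : PP 11 [(64, 32, 7), (32, 16, 11), (16, 16, 4)] := PP.of_run 100320 r45
theorem c46 : PP 11 [(64, 64, 23), (32, 16, 11), (16, 16, 4)] := PP.of_run 100320 r46
theorem c47 : PP 11 [(64, 256, 55), (32, 16, 11), (16, 16, 4)] := PP.of_run 100320 r47
theorem c48 : PP 11 [(128, 4, 0), (64, 256, 183), (32, 16, 11), (16, 16, 4)] := PP.of_run 100320 r48
theorem c49 : PP 11 [(128, 4, 2), (64, 256, 183), (32, 16, 11), (16, 16, 4)] := PP.of_run 100320 r49
theorem c50 : PP 11 [(128, 2, 1), (64, 256, 183), (32, 16, 11), (16, 16, 4)] := PP.of_run 100320 r50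
theorem c51 : PP 11 [(64, 128, 119), (32, 16, 11), (16, 16, 4)] := PP.of_run 100320 r51
theorem c52 : PP 11 [(64, 16, 15), (32, 16, 11), (16, 16, 4)] := PP.of_run 100320 r52
theorem c53 : PP 11 [(64, 8, 0), (32, 16, 7), (16, 16, 4)] := PP.of_run 100320 r53
theorem c54 : PP 11 [(64, 128, 4), (32, 16, 7), (16, 16, 4)] := PP.of_run 100320 r54
theorem c55 : PP 11 [(64, 128, 68), (32, 16, 7), (16, 16, 4)] := PP.of_run 100320 r55
theorem c56 : PP 11 [(64, 64, 36), (32, 16, 7), (16, 16, 4)] := PP.of_run 100320 r56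
theorem c57 : PP 11 [(64, 32, 20), (32, 16, 7), (16, 16, 4)] := PP.of_run 100320 r57
theorem c58 : PP 11 [(64, 16, 12), (32, 16, 7), (16, 16, 4)] := PP.of_run 100320 r58
theorem c59 : PP 11 [(64, 4, 2), (32, 16, 7), (16, 16, 4)] := PP.of_run 100320 r59
theorem c60 : PP 11 [(64, 4, 1), (32, 16, 7), (16, 16, 4)] := PP.of_run 100320 r60
theorem c61 : PP 11 [(128, 2, 0), (64, 128, 3), (32, 16, 7), (16, 16, 4)] := PP.of_run 100320 r61
theorem c62 : PP 11 [(128, 8, 1), (64, 128, 3), (32, 16, 7), (16, 16, 4)] := PP.of_run 100320 r62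
theorem c63 : PP 11 [(128, 32, 5), (64, 128, 3), (32, 16, 7), (16, 16, 4)] := PP.of_run 100320 r63
theorem c64 : PP 11 [(256, 2, 0), (128, 256, 21), (64, 128, 3), (32, 16, 7), (16, 16, 4)] := PP.of_run 100320 r64
theorem c65 : PP 11 [(256, 4, 1), (128, 256, 21), (64, 128, 3), (32, 16, 7), (16, 16, 4)] := PP.of_run 100320 r65
theorem c66 : PP 11 [(256, 4, 3), (128, 256, 21), (64, 128, 3), (32, 16, 7), (16, 16, 4)] := PP.of_run 100320 r66
theorem c67 : PP 11 [(128, 256, 149), (64, 128, 3), (32, 16, 7), (16, 16, 4)] := PP.of_run 100320 r67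
theorem c68 : PP 11 [(128, 128, 85), (64, 128, 3), (32, 16, 7), (16, 16, 4)] := PP.of_run 100320 r68
theorem c69 : PP 11 [(128, 64, 53), (64, 128, 3), (32, 16, 7), (16, 16, 4)] := PP.of_run 100320 r69
theorem c70 : PP 11 [(128, 16, 13), (64, 128, 3), (32, 16, 7), (16, 16, 4)] := PP.of_run 100320 r70
theorem c71 : PP 11 [(128, 4, 3), (64, 128, 3), (32, 16, 7), (16, 16, 4)] := PP.of_run 100320 r71
theorem c72 : PP 11 [(64, 128, 67), (32, 16, 7), (16, 16, 4)] := PP.of_run 100320 r72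
theorem c73 : PP 11 [(64, 64, 35), (32, 16, 7), (16, 16, 4)] := PP.of_run 100320 r73
theorem c74 : PP 11 [(64, 32, 19), (32, 16, 7), (16, 16, 4)] := PP.of_run 100320 r74
theorem c75 : PP 11 [(64, 16, 11), (32, 16, 7), (16, 16, 4)] := PP.of_run 100320 r75
theorem c76 : PP 11 [(64, 16, 7), (32, 16, 7), (16, 16, 4)] := PP.of_run 100320 r76
theorem c77 : PP 11 [(128, 2, 0), (64, 16, 15), (32, 16, 7), (16, 16, 4)] := PP.of_run 100320 r77
theorem c78 : PP 11 [(128, 64, 1), (64, 16, 15), (32, 16, 7), (16, 16, 4)] := PP.of_run 100320 r78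
theorem c79 : PP 11 [(128, 128, 33), (64, 16, 15), (32, 16, 7), (16, 16, 4)] := PP.of_run 100320 r79
theorem c80 : PP 11 [(256, 2, 0), (128, 128, 97), (64, 16, 15), (32, 16, 7), (16, 16, 4)] := PP.of_run 100320 r80
theorem c81 : PP 11 [(256, 2, 1), (128, 128, 97), (64, 16, 15), (32, 16, 7), (16, 16, 4)] := PP.of_run 100320 r81
theorem c82 : PP 11 [(128, 32, 17), (64, 16, 15), (32, 16, 7), (16, 16, 4)] := PP.of_run 100320 r82
theorem c83 : PP 11 [(128, 16, 9), (64, 16, 15), (32, 16, 7), (16, 16, 4)] := PP.of_run 100320 r83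
theorem c84 : PP 11 [(128, 8, 5), (64, 16, 15), (32, 16, 7), (16, 16, 4)] := PP.of_run 100320 r84
theorem c85 : PP 11 [(128, 4, 3), (64, 16, 15), (32, 16, 7), (16, 16, 4)] := PP.of_run 100320 r85
theorem c86 : PP 11 [(32, 16, 15), (16, 16, 4)] := PP.of_run 100320 r86
theorem c87 : PP 11 [(64, 4, 0), (32, 4, 0), (16, 16, 12)] := PP.of_run 100320 r87
theorem c88 : PP 11 [(64, 4, 2), (32, 4, 0), (16, 16, 12)] := PP.of_run 100320 r88
theorem c89 : PP 11 [(64, 4, 1), (32, 4, 0), (16, 16, 12)] := PP.of_run 100320 r89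
theorem c90 : PP 11 [(64, 8, 3), (32, 4, 0), (16, 16, 12)] := PP.of_run 100320 r90
theorem c91 : PP 11 [(64, 8, 7), (32, 4, 0), (16, 16, 12)] := PP.of_run 100320 r91
theorem c92 : PP 11 [(32, 8, 2), (16, 16, 12)] := PP.of_run 100320 r92
theorem c93 : PP 11 [(128, 4, 0), (64, 16, 0), (32, 8, 6), (16, 16, 12)] := PP.of_run 100320 r93
theorem c94 : PP 11 [(128, 8, 2), (64, 16, 0), (32, 8, 6), (16, 16, 12)] := PP.of_run 100320 r94
theorem c95 : PP 11 [(128, 8, 6), (64, 16, 0), (32, 8, 6), (16, 16, 12)] := PP.of_run 100320 r95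
theorem c96 : PP 11 [(128, 4, 1), (64, 16, 0), (32, 8, 6), (16, 16, 12)] := PP.of_run 100320 r96
theorem c97 : PP 11 [(128, 4, 3), (64, 16, 0), (32, 8, 6), (16, 16, 12)] := PP.of_run 100320 r97
theorem c98 : PP 11 [(64, 16, 8), (32, 8, 6), (16, 16, 12)] := PP.of_run 100320 r98
theorem c99 : PP 11 [(64, 8, 4), (32, 8, 6), (16, 16, 12)] := PP.of_run 100320 r99
theorem c100 : PP 11 [(64, 8, 2), (32, 8, 6), (16, 16, 12)] := PP.of_run 100320 r100
theorem c101 : PP 11 [(64, 8, 6), (32, 8, 6), (16, 16, 12)] := PP.of_run 100320 r101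
theorem c102 : PP 11 [(64, 16, 1), (32, 8, 6), (16, 16, 12)] := PP.of_run 100320 r102
theorem c103 : PP 11 [(128, 2, 0), (64, 16, 9), (32, 8, 6), (16, 16, 12)] := PP.of_run 100320 r103
theorem c104 : PP 11 [(128, 4, 1), (64, 16, 9), (32, 8, 6), (16, 16, 12)] := PP.of_run 100320 r104
theorem c105 : PP 11 [(128, 8, 3), (64, 16, 9), (32, 8, 6), (16, 16, 12)] := PP.of_run 100320 r105
theorem c106 : PP 11 [(128, 8, 7), (64, 16, 9), (32, 8, 6), (16, 16, 12)] := PP.of_run 100320 r106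
theorem c107 : PP 11 [(64, 16, 5), (32, 8, 6), (16, 16, 12)] := PP.of_run 100320 r107
theorem c108 : PP 11 [(128, 2, 0), (64, 16, 13), (32, 8, 6), (16, 16, 12)] := PP.of_run 100320 r108
theorem c109 : PP 11 [(128, 2, 1), (64, 16, 13), (32, 8, 6), (16, 16, 12)] := PP.of_run 100320 r109
theorem c110 : PP 11 [(64, 4, 3), (32, 8, 6), (16, 16, 12)] := PP.of_run 100320 r110
theorem c111 : PP 11 [(32, 4, 1), (16, 16, 12)] := PP.of_run 100320 r111
theorem c112 : PP 11 [(64, 2, 0), (32, 8, 3), (16, 16, 12)] := PP.of_run 100320 r112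
theorem c113 : PP 11 [(64, 4, 1), (32, 8, 3), (16, 16, 12)] := PP.of_run 100320 r113
theorem c114 : PP 11 [(64, 4, 3), (32, 8, 3), (16, 16, 12)] := PP.of_run 100320 r114
theorem c115 : PP 11 [(64, 4, 0), (32, 8, 7), (16, 16, 12)] := PP.of_run 100320 r115
theorem c116 : PP 11 [(64, 16, 2), (32, 8, 7), (16, 16, 12)] := PP.of_run 100320 r116
theorem c117 : PP 11 [(128, 2, 0), (64, 16, 10), (32, 8, 7), (16, 16, 12)] := PP.of_run 100320 r117
theorem c118 : PP 11 [(128, 2, 1), (64, 16, 10), (32, 8, 7), (16, 16, 12)] := PP.of_run 100320 r118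
theorem c119 : PP 11 [(128, 2, 0), (64, 16, 6), (32, 8, 7), (16, 16, 12)] := PP.of_run 100320 r119
theorem c120 : PP 11 [(128, 8, 1), (64, 16, 6), (32, 8, 7), (16, 16, 12)] := PP.of_run 100320 r120
theorem c121 : PP 11 [(128, 8, 5), (64, 16, 6), (32, 8, 7), (16, 16, 12)] := PP.of_run 100320 r121
theorem c122 : PP 11 [(128, 4, 3), (64, 16, 6), (32, 8, 7), (16, 16, 12)] := PP.of_run 100320 r122
theorem c123 : PP 11 [(64, 16, 14), (32, 8, 7), (16, 16, 12)] := PP.of_run 100320 r123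
theorem c124 : PP 11 [(64, 8, 1), (32, 8, 7), (16, 16, 12)] := PP.of_run 100320 r124
theorem c125 : PP 11 [(64, 16, 5), (32, 8, 7), (16, 16, 12)] := PP.of_run 100320 r125
theorem c126 : PP 11 [(64, 64, 13), (32, 8, 7), (16, 16, 12)] := PP.of_run 100320 r126
theorem c127 : PP 11 [(64, 128, 45), (32, 8, 7), (16, 16, 12)] := PP.of_run 100320 r127
theorem c128 : PP 11 [(128, 8, 0), (64, 512, 109), (32, 8, 7), (16, 16, 12)] := PP.of_run 100320 r128
theorem c129 : PP 11 [(128, 8, 4), (64, 512, 109), (32, 8, 7), (16, 16, 12)] := PP.of_run 100320 r129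
theorem c130 : PP 11 [(128, 4, 2), (64, 512, 109), (32, 8, 7), (16, 16, 12)] := PP.of_run 100320 r130
theorem c131 : PP 11 [(128, 2, 1), (64, 512, 109), (32, 8, 7), (16, 16, 12)] := PP.of_run 100320 r131
theorem c132 : PP 11 [(64, 512, 365), (32, 8, 7), (16, 16, 12)] := PP.of_run 100320 r132
theorem c133 : PP 11 [(64, 256, 237), (32, 8, 7), (16, 16, 12)] := PP.of_run 100320 r133
theorem c134 : PP 11 [(64, 32, 29), (32, 8, 7), (16, 16, 12)] := PP.of_run 100320 r134
theorem c135 : PP 11 [(64, 8, 3), (32, 8, 7), (16, 16, 12)] := PP.of_run 100320 r135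
theorem c136 : PP 11 [(64, 8, 7), (32, 8, 7), (16, 16, 12)] := PP.of_run 100320 r136
theorem c137 : PP 11 [(32, 4, 0), (16, 16, 2)] := PP.of_run 100320 r137
theorem c138 : PP 11 [(128, 2, 0), (64, 4, 0), (32, 8, 2), (16, 16, 2)] := PP.of_run 100320 r138
theorem c139 : PP 11 [(128, 2, 1), (64, 4, 0), (32, 8, 2), (16, 16, 2)] := PP.of_run 100320 r139
theorem c140 : PP 11 [(64, 4, 2), (32, 8, 2), (16, 16, 2)] := PP.of_run 100320 r140
theorem c141 : PP 11 [(64, 2, 1), (32, 8, 2), (16, 16, 2)] := PP.of_run 100320 r141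
theorem c142 : PP 11 [(32, 16, 6), (16, 16, 2)] := PP.of_run 100320 r142
theorem c143 : PP 11 [(32, 16, 14), (16, 16, 2)] := PP.of_run 100320 r143
theorem c144 : PP 11 [(32, 4, 1), (16, 16, 2)] := PP.of_run 100320 r144
theorem c145 : PP 11 [(32, 4, 3), (16, 16, 2)] := PP.of_run 100320 r145
theorem c146 : PP 11 [(32, 8, 0), (16, 16, 10)] := PP.of_run 100320 r146
theorem c147 : PP 11 [(64, 4, 0), (32, 16, 4), (16, 16, 10)] := PP.of_run 100320 r147
theorem c148 : PP 11 [(128, 4, 0), (64, 16, 2), (32, 16, 4), (16, 16, 10)] := PP.of_run 100320 r148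
theorem c149 : PP 11 [(128, 4, 2), (64, 16, 2), (32, 16, 4), (16, 16, 10)] := PP.of_run 100320 r149
theorem c150 : PP 11 [(128, 8, 1), (64, 16, 2), (32, 16, 4), (16, 16, 10)] := PP.of_run 100320 r150
theorem c151 : PP 11 [(128, 8, 5), (64, 16, 2), (32, 16, 4), (16, 16, 10)] := PP.of_run 100320 r151
theorem c152 : PP 11 [(128, 4, 3), (64, 16, 2), (32, 16, 4), (16, 16, 10)] := PP.of_run 100320 r152
theorem c153 : PP 11 [(64, 16, 10), (32, 16, 4), (16, 16, 10)] := PP.of_run 100320 r153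
theorem c154 : PP 11 [(128, 4, 0), (64, 16, 6), (32, 16, 4), (16, 16, 10)] := PP.of_run 100320 r154
theorem c155 : PP 11 [(128, 4, 2), (64, 16, 6), (32, 16, 4), (16, 16, 10)] := PP.of_run 100320 r155
theorem c156 : PP 11 [(128, 4, 1), (64, 16, 6), (32, 16, 4), (16, 16, 10)] := PP.of_run 100320 r156
theorem c157 : PP 11 [(128, 4, 3), (64, 16, 6), (32, 16, 4), (16, 16, 10)] := PP.of_run 100320 r157
theorem c158 : PP 11 [(64, 16, 14), (32, 16, 4), (16, 16, 10)] := PP.of_run 100320 r158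
theorem c159 : PP 11 [(128, 8, 0), (64, 8, 1), (32, 16, 4), (16, 16, 10)] := PP.of_run 100320 r159
theorem c160 : PP 11 [(128, 64, 4), (64, 8, 1), (32, 16, 4), (16, 16, 10)] := PP.of_run 100320 r160
theorem c161 : PP 11 [(256, 2, 0), (128, 64, 36), (64, 8, 1), (32, 16, 4), (16, 16, 10)] := PP.of_run 100320 r161
theorem c162 : PP 11 [(256, 2, 1), (128, 64, 36), (64, 8, 1), (32, 16, 4), (16, 16, 10)] := PP.of_run 100320 r162
theorem c163 : PP 11 [(128, 32, 20), (64, 8, 1), (32, 16, 4), (16, 16, 10)] := PP.of_run 100320 r163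
theorem c164 : PP 11 [(128, 16, 12), (64, 8, 1), (32, 16, 4), (16, 16, 10)] := PP.of_run 100320 r164
theorem c165 : PP 11 [(128, 4, 2), (64, 8, 1), (32, 16, 4), (16, 16, 10)] := PP.of_run 100320 r165
theorem c166 : PP 11 [(128, 4, 1), (64, 8, 1), (32, 16, 4), (16, 16, 10)] := PP.of_run 100320 r166
theorem c167 : PP 11 [(128, 4, 3), (64, 8, 1), (32, 16, 4), (16, 16, 10)] := PP.of_run 100320 r167
theorem c168 : PP 11 [(64, 8, 5), (32, 16, 4), (16, 16, 10)] := PP.of_run 100320 r168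
theorem c169 : PP 11 [(64, 8, 3), (32, 16, 4), (16, 16, 10)] := PP.of_run 100320 r169
theorem c170 : PP 11 [(128, 2, 0), (64, 8, 7), (32, 16, 4), (16, 16, 10)] := PP.of_run 100320 r170
theorem c171 : PP 11 [(128, 2, 1), (64, 8, 7), (32, 16, 4), (16, 16, 10)] := PP.of_run 100320 r171
theorem c172 : PP 11 [(64, 2, 0), (32, 16, 12), (16, 16, 10)] := PP.of_run 100320 r172
theorem c173 : PP 11 [(64, 2, 1), (32, 16, 12), (16, 16, 10)] := PP.of_run 100320 r173
theorem c174 : PP 11 [(64, 2, 0), (32, 16, 2), (16, 16, 10)] := PP.of_run 100320 r174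
theorem c175 : PP 11 [(64, 2, 1), (32, 16, 2), (16, 16, 10)] := PP.of_run 100320 r175
theorem c176 : PP 11 [(32, 16, 10), (16, 16, 10)] := PP.of_run 100320 r176
theorem c177 : PP 11 [(32, 16, 6), (16, 16, 10)] := PP.of_run 100320 r177
theorem c178 : PP 11 [(32, 16, 14), (16, 16, 10)] := PP.of_run 100320 r178
theorem c179 : PP 11 [(32, 8, 1), (16, 16, 10)] := PP.of_run 100320 r179
theorem c180 : PP 11 [(32, 16, 5), (16, 16, 10)] := PP.of_run 100320 r180
theorem c181 : PP 11 [(64, 4, 0), (32, 32, 13), (16, 16, 10)] := PP.of_run 100320 r181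
theorem c182 : PP 11 [(128, 4, 0), (64, 8, 2), (32, 32, 13), (16, 16, 10)] := PP.of_run 100320 r182
theorem c183 : PP 11 [(128, 4, 2), (64, 8, 2), (32, 32, 13), (16, 16, 10)] := PP.of_run 100320 r183
theorem c184 : PP 11 [(128, 4, 1), (64, 8, 2), (32, 32, 13), (16, 16, 10)] := PP.of_run 100320 r184
theorem c185 : PP 11 [(128, 8, 3), (64, 8, 2), (32, 32, 13), (16, 16, 10)] := PP.of_run 100320 r185
theorem c186 : PP 11 [(128, 8, 7), (64, 8, 2), (32, 32, 13), (16, 16, 10)] := PP.of_run 100320 r186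
theorem c187 : PP 11 [(128, 2, 0), (64, 8, 6), (32, 32, 13), (16, 16, 10)] := PP.of_run 100320 r187
theorem c188 : PP 11 [(128, 2, 1), (64, 8, 6), (32, 32, 13), (16, 16, 10)] := PP.of_run 100320 r188
theorem c189 : PP 11 [(128, 4, 0), (64, 4, 1), (32, 32, 13), (16, 16, 10)] := PP.of_run 100320 r189
theorem c190 : PP 11 [(128, 8, 2), (64, 4, 1), (32, 32, 13), (16, 16, 10)] := PP.of_run 100320 r190
theorem c191 : PP 11 [(128, 8, 6), (64, 4, 1), (32, 32, 13), (16, 16, 10)] := PP.of_run 100320 r191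
theorem c192 : PP 11 [(128, 4, 1), (64, 4, 1), (32, 32, 13), (16, 16, 10)] := PP.of_run 100320 r192
theorem c193 : PP 11 [(128, 4, 3), (64, 4, 1), (32, 32, 13), (16, 16, 10)] := PP.of_run 100320 r193
theorem c194 : PP 11 [(64, 8, 3), (32, 32, 13), (16, 16, 10)] := PP.of_run 100320 r194
theorem c195 : PP 11 [(64, 8, 7), (32, 32, 13), (16, 16, 10)] := PP.of_run 100320 r195
theorem c196 : PP 11 [(32, 32, 29), (16, 16, 10)] := PP.of_run 100320 r196
theorem c197 : PP 11 [(32, 16, 3), (16, 16, 10)] := PP.of_run 100320 r197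
theorem c198 : PP 11 [(32, 32, 11), (16, 16, 10)] := PP.of_run 100320 r198
theorem c199 : PP 11 [(128, 8, 0), (64, 8, 0), (32, 32, 27), (16, 16, 10)] := PP.of_run 100320 r199
theorem c200 : PP 11 [(128, 16, 4), (64, 8, 0), (32, 32, 27), (16, 16, 10)] := PP.of_run 100320 r200
theorem c201 : PP 11 [(128, 16, 12), (64, 8, 0), (32, 32, 27), (16, 16, 10)] := PP.of_run 100320 r201
theorem c202 : PP 11 [(128, 4, 2), (64, 8, 0), (32, 32, 27), (16, 16, 10)] := PP.of_run 100320 r202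
theorem c203 : PP 11 [(128, 4, 1), (64, 8, 0), (32, 32, 27), (16, 16, 10)] := PP.of_run 100320 r203
theorem c204 : PP 11 [(128, 4, 3), (64, 8, 0), (32, 32, 27), (16, 16, 10)] := PP.of_run 100320 r204
theorem c205 : PP 11 [(64, 8, 4), (32, 32, 27), (16, 16, 10)] := PP.of_run 100320 r205
theorem c206 : PP 11 [(64, 8, 2), (32, 32, 27), (16, 16, 10)] := PP.of_run 100320 r206
theorem c207 : PP 11 [(128, 4, 0), (64, 16, 6), (32, 32, 27), (16, 16, 10)] := PP.of_run 100320 r207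
theorem c208 : PP 11 [(128, 4, 2), (64, 16, 6), (32, 32, 27), (16, 16, 10)] := PP.of_run 100320 r208
theorem c209 : PP 11 [(128, 4, 1), (64, 16, 6), (32, 32, 27), (16, 16, 10)] := PP.of_run 100320 r209
theorem c210 : PP 11 [(128, 4, 3), (64, 16, 6), (32, 32, 27), (16, 16, 10)] := PP.of_run 100320 r210
theorem c211 : PP 11 [(64, 16, 14), (32, 32, 27), (16, 16, 10)] := PP.of_run 100320 r211
theorem c212 : PP 11 [(64, 8, 1), (32, 32, 27), (16, 16, 10)] := PP.of_run 100320 r212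
theorem c213 : PP 11 [(64, 16, 5), (32, 32, 27), (16, 16, 10)] := PP.of_run 100320 r213
theorem c214 : PP 11 [(128, 2, 0), (64, 16, 13), (32, 32, 27), (16, 16, 10)] := PP.of_run 100320 r214
theorem c215 : PP 11 [(128, 2, 1), (64, 16, 13), (32, 32, 27), (16, 16, 10)] := PP.of_run 100320 r215
theorem c216 : PP 11 [(64, 8, 3), (32, 32, 27), (16, 16, 10)] := PP.of_run 100320 r216
theorem c217 : PP 11 [(64, 16, 7), (32, 32, 27), (16, 16, 10)] := PP.of_run 100320 r217
theorem c218 : PP 11 [(128, 4, 0), (64, 16, 15), (32, 32, 27), (16, 16, 10)] := PP.of_run 100320 r218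
theorem c219 : PP 11 [(128, 4, 2), (64, 16, 15), (32, 32, 27), (16, 16, 10)] := PP.of_run 100320 r219
theorem c220 : PP 11 [(128, 4, 1), (64, 16, 15), (32, 32, 27), (16, 16, 10)] := PP.of_run 100320 r220
theorem c221 : PP 11 [(128, 8, 3), (64, 16, 15), (32, 32, 27), (16, 16, 10)] := PP.of_run 100320 r221
theorem c222 : PP 11 [(128, 64, 7), (64, 16, 15), (32, 32, 27), (16, 16, 10)] := PP.of_run 100320 r222
theorem c223 : PP 11 [(256, 2, 0), (128, 64, 39), (64, 16, 15), (32, 32, 27), (16, 16, 10)] := PP.of_run 100320 r223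
theorem c224 : PP 11 [(256, 2, 1), (128, 64, 39), (64, 16, 15), (32, 32, 27), (16, 16, 10)] := PP.of_run 100320 r224
theorem c225 : PP 11 [(128, 32, 23), (64, 16, 15), (32, 32, 27), (16, 16, 10)] := PP.of_run 100320 r225
theorem c226 : PP 11 [(128, 16, 15), (64, 16, 15), (32, 32, 27), (16, 16, 10)] := PP.of_run 100320 r226
theorem c227 : PP 11 [(32, 8, 7), (16, 16, 10)] := PP.of_run 100320 r227
theorem c228 : PP 11 [(32, 4, 0), (16, 16, 6)] := PP.of_run 100320 r228
theorem c229 : PP 11 [(64, 2, 0), (32, 8, 2), (16, 16, 6)] := PP.of_run 100320 r229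
theorem c230 : PP 11 [(64, 2, 1), (32, 8, 2), (16, 16, 6)] := PP.of_run 100320 r230
theorem c231 : PP 11 [(32, 8, 6), (16, 16, 6)] := PP.of_run 100320 r231
theorem c232 : PP 11 [(32, 4, 1), (16, 16, 6)] := PP.of_run 100320 r232
theorem c233 : PP 11 [(32, 8, 3), (16, 16, 6)] := PP.of_run 100320 r233
theorem c234 : PP 11 [(32, 8, 7), (16, 16, 6)] := PP.of_run 100320 r234
theorem c235 : PP 11 [(32, 8, 0), (16, 16, 14)] := PP.of_run 100320 r235
theorem c236 : PP 11 [(32, 16, 4), (16, 16, 14)] := PP.of_run 100320 r236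
theorem c237 : PP 11 [(64, 2, 0), (32, 16, 12), (16, 16, 14)] := PP.of_run 100320 r237
theorem c238 : PP 11 [(64, 2, 1), (32, 16, 12), (16, 16, 14)] := PP.of_run 100320 r238
theorem c239 : PP 11 [(32, 4, 2), (16, 16, 14)] := PP.of_run 100320 r239
theorem c240 : PP 11 [(32, 2, 1), (16, 16, 14)] := PP.of_run 100320 r240
theorem c241 : PP 11 [(32, 4, 0), (16, 16, 1)] := PP.of_run 100320 r241
theorem c242 : PP 11 [(32, 8, 2), (16, 16, 1)] := PP.of_run 100320 r242
theorem c243 : PP 11 [(32, 8, 6), (16, 16, 1)] := PP.of_run 100320 r243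
theorem c244 : PP 11 [(32, 8, 1), (16, 16, 1)] := PP.of_run 100320 r244
theorem c245 : PP 11 [(32, 8, 5), (16, 16, 1)] := PP.of_run 100320 r245
theorem c246 : PP 11 [(32, 4, 3), (16, 16, 1)] := PP.of_run 100320 r246
theorem c247 : PP 11 [(32, 8, 0), (16, 16, 9)] := PP.of_run 100320 r247
theorem c248 : PP 11 [(64, 4, 0), (32, 8, 4), (16, 16, 9)] := PP.of_run 100320 r248
theorem c249 : PP 11 [(64, 4, 2), (32, 8, 4), (16, 16, 9)] := PP.of_run 100320 r249
theorem c250 : PP 11 [(64, 2, 1), (32, 8, 4), (16, 16, 9)] := PP.of_run 100320 r250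
theorem c251 : PP 11 [(32, 4, 2), (16, 16, 9)] := PP.of_run 100320 r251
theorem c252 : PP 11 [(32, 4, 1), (16, 16, 9)] := PP.of_run 100320 r252
theorem c253 : PP 11 [(32, 8, 3), (16, 16, 9)] := PP.of_run 100320 r253
theorem c254 : PP 11 [(32, 8, 7), (16, 16, 9)] := PP.of_run 100320 r254
theorem c255 : PP 11 [(64, 2, 0), (32, 8, 0), (16, 16, 5)] := PP.of_run 100320 r255
theorem c256 : PP 11 [(64, 2, 1), (32, 8, 0), (16, 16, 5)] := PP.of_run 100320 r256
theorem c257 : PP 11 [(32, 8, 4), (16, 16, 5)] := PP.of_run 100320 r257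
theorem c258 : PP 11 [(32, 4, 2), (16, 16, 5)] := PP.of_run 100320 r258
theorem c259 : PP 11 [(32, 8, 1), (16, 16, 5)] := PP.of_run 100320 r259
theorem c260 : PP 11 [(32, 8, 5), (16, 16, 5)] := PP.of_run 100320 r260
theorem c261 : PP 11 [(32, 4, 3), (16, 16, 5)] := PP.of_run 100320 r261
theorem c262 : PP 11 [(32, 16, 0), (16, 16, 13)] := PP.of_run 100320 r262
theorem c263 : PP 11 [(32, 32, 8), (16, 16, 13)] := PP.of_run 100320 r263
theorem c264 : PP 11 [(64, 4, 0), (32, 32, 24), (16, 16, 13)] := PP.of_run 100320 r264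
theorem c265 : PP 11 [(64, 4, 2), (32, 32, 24), (16, 16, 13)] := PP.of_run 100320 r265
theorem c266 : PP 11 [(64, 2, 1), (32, 32, 24), (16, 16, 13)] := PP.of_run 100320 r266
theorem c267 : PP 11 [(64, 2, 0), (32, 8, 4), (16, 16, 13)] := PP.of_run 100320 r267
theorem c268 : PP 11 [(64, 2, 1), (32, 8, 4), (16, 16, 13)] := PP.of_run 100320 r268
theorem c269 : PP 11 [(32, 8, 2), (16, 16, 13)] := PP.of_run 100320 r269
theorem c270 : PP 11 [(32, 16, 6), (16, 16, 13)] := PP.of_run 100320 r270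
theorem c271 : PP 11 [(32, 16, 14), (16, 16, 13)] := PP.of_run 100320 r271
theorem c272 : PP 11 [(32, 8, 1), (16, 16, 13)] := PP.of_run 100320 r272
theorem c273 : PP 11 [(64, 2, 0), (32, 8, 5), (16, 16, 13)] := PP.of_run 100320 r273
theorem c274 : PP 11 [(64, 2, 1), (32, 8, 5), (16, 16, 13)] := PP.of_run 100320 r274
theorem c275 : PP 11 [(64, 4, 0), (32, 8, 3), (16, 16, 13)] := PP.of_run 100320 r275
theorem c276 : PP 11 [(64, 8, 2), (32, 8, 3), (16, 16, 13)] := PP.of_run 100320 r276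
theorem c277 : PP 11 [(128, 2, 0), (64, 16, 6), (32, 8, 3), (16, 16, 13)] := PP.of_run 100320 r277
theorem c278 : PP 11 [(128, 2, 1), (64, 16, 6), (32, 8, 3), (16, 16, 13)] := PP.of_run 100320 r278
theorem c279 : PP 11 [(64, 16, 14), (32, 8, 3), (16, 16, 13)] := PP.of_run 100320 r279
theorem c280 : PP 11 [(128, 2, 0), (64, 8, 1), (32, 8, 3), (16, 16, 13)] := PP.of_run 100320 r280
theorem c281 : PP 11 [(128, 4, 1), (64, 8, 1), (32, 8, 3), (16, 16, 13)] := PP.of_run 100320 r281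
theorem c282 : PP 11 [(128, 8, 3), (64, 8, 1), (32, 8, 3), (16, 16, 13)] := PP.of_run 100320 r282
theorem c283 : PP 11 [(128, 16, 7), (64, 8, 1), (32, 8, 3), (16, 16, 13)] := PP.of_run 100320 r283
theorem c284 : PP 11 [(128, 64, 15), (64, 8, 1), (32, 8, 3), (16, 16, 13)] := PP.of_run 100320 r284
theorem c285 : PP 11 [(128, 128, 47), (64, 8, 1), (32, 8, 3), (16, 16, 13)] := PP.of_run 100320 r285
theorem c286 : PP 11 [(256, 2, 0), (128, 128, 111), (64, 8, 1), (32, 8, 3), (16, 16, 13)] := PP.of_run 100320 r286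
theorem c287 : PP 11 [(256, 2, 1), (128, 128, 111), (64, 8, 1), (32, 8, 3), (16, 16, 13)] := PP.of_run 100320 r287
theorem c288 : PP 11 [(128, 32, 31), (64, 8, 1), (32, 8, 3), (16, 16, 13)] := PP.of_run 100320 r288
theorem c289 : PP 11 [(128, 4, 0), (64, 32, 5), (32, 8, 3), (16, 16, 13)] := PP.of_run 100320 r289
theorem c290 : PP 11 [(128, 8, 2), (64, 32, 5), (32, 8, 3), (16, 16, 13)] := PP.of_run 100320 r290
theorem c291 : PP 11 [(128, 16, 6), (64, 32, 5), (32, 8, 3), (16, 16, 13)] := PP.of_run 100320 r291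
theorem c292 : PP 11 [(128, 16, 14), (64, 32, 5), (32, 8, 3), (16, 16, 13)] := PP.of_run 100320 r292
theorem c293 : PP 11 [(128, 2, 1), (64, 32, 5), (32, 8, 3), (16, 16, 13)] := PP.of_run 100320 r293
theorem c294 : PP 11 [(64, 32, 21), (32, 8, 3), (16, 16, 13)] := PP.of_run 100320 r294
theorem c295 : PP 11 [(64, 16, 13), (32, 8, 3), (16, 16, 13)] := PP.of_run 100320 r295
theorem c296 : PP 11 [(64, 4, 3), (32, 8, 3), (16, 16, 13)] := PP.of_run 100320 r296
theorem c297 : PP 11 [(32, 32, 7), (16, 16, 13)] := PP.of_run 100320 r297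
theorem c298 : PP 11 [(64, 8, 0), (32, 32, 23), (16, 16, 13)] := PP.of_run 100320 r298
theorem c299 : PP 11 [(64, 8, 4), (32, 32, 23), (16, 16, 13)] := PP.of_run 100320 r299
theorem c300 : PP 11 [(64, 4, 2), (32, 32, 23), (16, 16, 13)] := PP.of_run 100320 r300
theorem c301 : PP 11 [(64, 16, 1), (32, 32, 23), (16, 16, 13)] := PP.of_run 100320 r301
theorem c302 : PP 11 [(64, 32, 9), (32, 32, 23), (16, 16, 13)] := PP.of_run 100320 r302
theorem c303 : PP 11 [(64, 128, 25), (32, 32, 23), (16, 16, 13)] := PP.of_run 100320 r303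
theorem c304 : PP 11 [(64, 256, 89), (32, 32, 23), (16, 16, 13)] := PP.of_run 100320 r304
theorem c305 : PP 11 [(64, 256, 217), (32, 32, 23), (16, 16, 13)] := PP.of_run 100320 r305
theorem c306 : PP 11 [(64, 64, 57), (32, 32, 23), (16, 16, 13)] := PP.of_run 100320 r306
theorem c307 : PP 11 [(64, 8, 5), (32, 32, 23), (16, 16, 13)] := PP.of_run 100320 r307
theorem c308 : PP 11 [(64, 8, 3), (32, 32, 23), (16, 16, 13)] := PP.of_run 100320 r308
theorem c309 : PP 11 [(64, 64, 7), (32, 32, 23), (16, 16, 13)] := PP.of_run 100320 r309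
theorem c310 : PP 11 [(128, 2, 0), (64, 128, 39), (32, 32, 23), (16, 16, 13)] := PP.of_run 100320 r310
theorem c311 : PP 11 [(128, 2, 1), (64, 128, 39), (32, 32, 23), (16, 16, 13)] := PP.of_run 100320 r311
theorem c312 : PP 11 [(64, 128, 103), (32, 32, 23), (16, 16, 13)] := PP.of_run 100320 r312
theorem c313 : PP 11 [(64, 32, 23), (32, 32, 23), (16, 16, 13)] := PP.of_run 100320 r313
theorem c314 : PP 11 [(64, 16, 15), (32, 32, 23), (16, 16, 13)] := PP.of_run 100320 r314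
theorem c315 : PP 11 [(32, 16, 15), (16, 16, 13)] := PP.of_run 100320 r315
theorem c316 : PP 11 [(64, 2, 0), (32, 8, 0), (16, 16, 3)] := PP.of_run 100320 r316
theorem c317 : PP 11 [(64, 2, 1), (32, 8, 0), (16, 16, 3)] := PP.of_run 100320 r317
theorem c318 : PP 11 [(64, 8, 0), (32, 8, 4), (16, 16, 3)] := PP.of_run 100320 r318
theorem c319 : PP 11 [(64, 16, 4), (32, 8, 4), (16, 16, 3)] := PP.of_run 100320 r319
theorem c320 : PP 11 [(64, 32, 12), (32, 8, 4), (16, 16, 3)] := PP.of_run 100320 r320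
theorem c321 : PP 11 [(64, 256, 28), (32, 8, 4), (16, 16, 3)] := PP.of_run 100320 r321
theorem c322 : PP 11 [(64, 512, 156), (32, 8, 4), (16, 16, 3)] := PP.of_run 100320 r322
theorem c323 : PP 11 [(128, 2, 0), (64, 512, 412), (32, 8, 4), (16, 16, 3)] := PP.of_run 100320 r323
theorem c324 : PP 11 [(128, 2, 1), (64, 512, 412), (32, 8, 4), (16, 16, 3)] := PP.of_run 100320 r324
theorem c325 : PP 11 [(64, 128, 92), (32, 8, 4), (16, 16, 3)] := PP.of_run 100320 r325
theorem c326 : PP 11 [(64, 64, 60), (32, 8, 4), (16, 16, 3)] := PP.of_run 100320 r326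
theorem c327 : PP 11 [(64, 4, 2), (32, 8, 4), (16, 16, 3)] := PP.of_run 100320 r327
theorem c328 : PP 11 [(64, 32, 1), (32, 8, 4), (16, 16, 3)] := PP.of_run 100320 r328
theorem c329 : PP 11 [(128, 2, 0), (64, 64, 17), (32, 8, 4), (16, 16, 3)] := PP.of_run 100320 r329
theorem c330 : PP 11 [(128, 2, 1), (64, 64, 17), (32, 8, 4), (16, 16, 3)] := PP.of_run 100320 r330
theorem c331 : PP 11 [(64, 64, 49), (32, 8, 4), (16, 16, 3)] := PP.of_run 100320 r331
theorem c332 : PP 11 [(64, 16, 9), (32, 8, 4), (16, 16, 3)] := PP.of_run 100320 r332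
theorem c333 : PP 11 [(64, 8, 5), (32, 8, 4), (16, 16, 3)] := PP.of_run 100320 r333
theorem c334 : PP 11 [(128, 2, 0), (64, 32, 3), (32, 8, 4), (16, 16, 3)] := PP.of_run 100320 r334
theorem c335 : PP 11 [(128, 2, 1), (64, 32, 3), (32, 8, 4), (16, 16, 3)] := PP.of_run 100320 r335
theorem c336 : PP 11 [(64, 32, 19), (32, 8, 4), (16, 16, 3)] := PP.of_run 100320 r336
theorem c337 : PP 11 [(64, 16, 11), (32, 8, 4), (16, 16, 3)] := PP.of_run 100320 r337
theorem c338 : PP 11 [(64, 8, 7), (32, 8, 4), (16, 16, 3)] := PP.of_run 100320 r338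
theorem c339 : PP 11 [(32, 8, 2), (16, 16, 3)] := PP.of_run 100320 r339
theorem c340 : PP 11 [(128, 2, 0), (64, 32, 0), (32, 8, 6), (16, 16, 3)] := PP.of_run 100320 r340
theorem c341 : PP 11 [(128, 2, 1), (64, 32, 0), (32, 8, 6), (16, 16, 3)] := PP.of_run 100320 r341
theorem c342 : PP 11 [(64, 32, 16), (32, 8, 6), (16, 16, 3)] := PP.of_run 100320 r342
theorem c343 : PP 11 [(64, 16, 8), (32, 8, 6), (16, 16, 3)] := PP.of_run 100320 r343
theorem c344 : PP 11 [(64, 8, 4), (32, 8, 6), (16, 16, 3)] := PP.of_run 100320 r344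
theorem c345 : PP 11 [(64, 8, 2), (32, 8, 6), (16, 16, 3)] := PP.of_run 100320 r345
theorem c346 : PP 11 [(128, 8, 0), (64, 32, 6), (32, 8, 6), (16, 16, 3)] := PP.of_run 100320 r346
theorem c347 : PP 11 [(128, 32, 4), (64, 32, 6), (32, 8, 6), (16, 16, 3)] := PP.of_run 100320 r347
theorem c348 : PP 11 [(256, 2, 0), (128, 64, 20), (64, 32, 6), (32, 8, 6), (16, 16, 3)] := PP.of_run 100320 r348
theorem c349 : PP 11 [(256, 2, 1), (128, 64, 20), (64, 32, 6), (32, 8, 6), (16, 16, 3)] := PP.of_run 100320 r349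
theorem c350 : PP 11 [(128, 64, 52), (64, 32, 6), (32, 8, 6), (16, 16, 3)] := PP.of_run 100320 r350
theorem c351 : PP 11 [(128, 16, 12), (64, 32, 6), (32, 8, 6), (16, 16, 3)] := PP.of_run 100320 r351
theorem c352 : PP 11 [(128, 4, 2), (64, 32, 6), (32, 8, 6), (16, 16, 3)] := PP.of_run 100320 r352
theorem c353 : PP 11 [(128, 4, 1), (64, 32, 6), (32, 8, 6), (16, 16, 3)] := PP.of_run 100320 r353
theorem c354 : PP 11 [(128, 4, 3), (64, 32, 6), (32, 8, 6), (16, 16, 3)] := PP.of_run 100320 r354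
theorem c355 : PP 11 [(64, 32, 22), (32, 8, 6), (16, 16, 3)] := PP.of_run 100320 r355
theorem c356 : PP 11 [(128, 2, 0), (64, 32, 14), (32, 8, 6), (16, 16, 3)] := PP.of_run 100320 r356
theorem c357 : PP 11 [(128, 2, 1), (64, 32, 14), (32, 8, 6), (16, 16, 3)] := PP.of_run 100320 r357
theorem c358 : PP 11 [(64, 32, 30), (32, 8, 6), (16, 16, 3)] := PP.of_run 100320 r358
theorem c359 : PP 11 [(64, 16, 1), (32, 8, 6), (16, 16, 3)] := PP.of_run 100320 r359
theorem c360 : PP 11 [(64, 32, 9), (32, 8, 6), (16, 16, 3)] := PP.of_run 100320 r360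
theorem c361 : PP 11 [(128, 2, 0), (64, 32, 25), (32, 8, 6), (16, 16, 3)] := PP.of_run 100320 r361
theorem c362 : PP 11 [(128, 2, 1), (64, 32, 25), (32, 8, 6), (16, 16, 3)] := PP.of_run 100320 r362
theorem c363 : PP 11 [(64, 8, 5), (32, 8, 6), (16, 16, 3)] := PP.of_run 100320 r363
theorem c364 : PP 11 [(128, 2, 0), (64, 16, 3), (32, 8, 6), (16, 16, 3)] := PP.of_run 100320 r364
theorem c365 : PP 11 [(128, 4, 1), (64, 16, 3), (32, 8, 6), (16, 16, 3)] := PP.of_run 100320 r365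
theorem c366 : PP 11 [(128, 4, 3), (64, 16, 3), (32, 8, 6), (16, 16, 3)] := PP.of_run 100320 r366
theorem c367 : PP 11 [(64, 16, 11), (32, 8, 6), (16, 16, 3)] := PP.of_run 100320 r367
theorem c368 : PP 11 [(64, 16, 7), (32, 8, 6), (16, 16, 3)] := PP.of_run 100320 r368
theorem c369 : PP 11 [(64, 32, 15), (32, 8, 6), (16, 16, 3)] := PP.of_run 100320 r369
theorem c370 : PP 11 [(128, 8, 0), (64, 32, 31), (32, 8, 6), (16, 16, 3)] := PP.of_run 100320 r370
theorem c371 : PP 11 [(128, 8, 4), (64, 32, 31), (32, 8, 6), (16, 16, 3)] := PP.of_run 100320 r371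
theorem c372 : PP 11 [(128, 4, 2), (64, 32, 31), (32, 8, 6), (16, 16, 3)] := PP.of_run 100320 r372
theorem c373 : PP 11 [(128, 2, 1), (64, 32, 31), (32, 8, 6), (16, 16, 3)] := PP.of_run 100320 r373
theorem c374 : PP 11 [(32, 8, 1), (16, 16, 3)] := PP.of_run 100320 r374
theorem c375 : PP 11 [(64, 8, 0), (32, 8, 5), (16, 16, 3)] := PP.of_run 100320 r375
theorem c376 : PP 11 [(128, 2, 0), (64, 8, 4), (32, 8, 5), (16, 16, 3)] := PP.of_run 100320 r376
theorem c377 : PP 11 [(128, 2, 1), (64, 8, 4), (32, 8, 5), (16, 16, 3)] := PP.of_run 100320 r377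
theorem c378 : PP 11 [(64, 8, 2), (32, 8, 5), (16, 16, 3)] := PP.of_run 100320 r378
theorem c379 : PP 11 [(64, 8, 6), (32, 8, 5), (16, 16, 3)] := PP.of_run 100320 r379
theorem c380 : PP 11 [(128, 2, 0), (64, 16, 1), (32, 8, 5), (16, 16, 3)] := PP.of_run 100320 r380
theorem c381 : PP 11 [(128, 2, 1), (64, 16, 1), (32, 8, 5), (16, 16, 3)] := PP.of_run 100320 r381
theorem c382 : PP 11 [(64, 16, 9), (32, 8, 5), (16, 16, 3)] := PP.of_run 100320 r382
theorem c383 : PP 11 [(64, 8, 5), (32, 8, 5), (16, 16, 3)] := PP.of_run 100320 r383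
theorem c384 : PP 11 [(128, 2, 0), (64, 16, 3), (32, 8, 5), (16, 16, 3)] := PP.of_run 100320 r384
theorem c385 : PP 11 [(128, 2, 1), (64, 16, 3), (32, 8, 5), (16, 16, 3)] := PP.of_run 100320 r385
theorem c386 : PP 11 [(64, 16, 11), (32, 8, 5), (16, 16, 3)] := PP.of_run 100320 r386
theorem c387 : PP 11 [(64, 8, 7), (32, 8, 5), (16, 16, 3)] := PP.of_run 100320 r387
theorem c388 : PP 11 [(64, 4, 0), (32, 8, 3), (16, 16, 3)] := PP.of_run 100320 r388
theorem c389 : PP 11 [(64, 4, 2), (32, 8, 3), (16, 16, 3)] := PP.of_run 100320 r389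
theorem c390 : PP 11 [(64, 4, 1), (32, 8, 3), (16, 16, 3)] := PP.of_run 100320 r390
theorem c391 : PP 11 [(64, 4, 3), (32, 8, 3), (16, 16, 3)] := PP.of_run 100320 r391
theorem c392 : PP 11 [(64, 32, 0), (32, 8, 7), (16, 16, 3)] := PP.of_run 100320 r392
theorem c393 : PP 11 [(128, 2, 0), (64, 32, 16), (32, 8, 7), (16, 16, 3)] := PP.of_run 100320 r393
theorem c394 : PP 11 [(128, 2, 1), (64, 32, 16), (32, 8, 7), (16, 16, 3)] := PP.of_run 100320 r394
theorem c395 : PP 11 [(64, 16, 8), (32, 8, 7), (16, 16, 3)] := PP.of_run 100320 r395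
theorem c396 : PP 11 [(64, 16, 4), (32, 8, 7), (16, 16, 3)] := PP.of_run 100320 r396
theorem c397 : PP 11 [(128, 2, 0), (64, 32, 12), (32, 8, 7), (16, 16, 3)] := PP.of_run 100320 r397
theorem c398 : PP 11 [(128, 4, 1), (64, 32, 12), (32, 8, 7), (16, 16, 3)] := PP.of_run 100320 r398
theorem c399 : PP 11 [(128, 8, 3), (64, 32, 12), (32, 8, 7), (16, 16, 3)] := PP.of_run 100320 r399
theorem c400 : PP 11 [(128, 8, 7), (64, 32, 12), (32, 8, 7), (16, 16, 3)] := PP.of_run 100320 r400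
theorem c401 : PP 11 [(64, 32, 28), (32, 8, 7), (16, 16, 3)] := PP.of_run 100320 r401
theorem c402 : PP 11 [(64, 8, 2), (32, 8, 7), (16, 16, 3)] := PP.of_run 100320 r402
theorem c403 : PP 11 [(128, 2, 0), (64, 16, 6), (32, 8, 7), (16, 16, 3)] := PP.of_run 100320 r403
theorem c404 : PP 11 [(128, 2, 1), (64, 16, 6), (32, 8, 7), (16, 16, 3)] := PP.of_run 100320 r404
theorem c405 : PP 11 [(64, 16, 14), (32, 8, 7), (16, 16, 3)] := PP.of_run 100320 r405
theorem c406 : PP 11 [(64, 8, 1), (32, 8, 7), (16, 16, 3)] := PP.of_run 100320 r406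
theorem c407 : PP 11 [(64, 16, 5), (32, 8, 7), (16, 16, 3)] := PP.of_run 100320 r407
theorem c408 : PP 11 [(128, 2, 0), (64, 16, 13), (32, 8, 7), (16, 16, 3)] := PP.of_run 100320 r408
theorem c409 : PP 11 [(128, 2, 1), (64, 16, 13), (32, 8, 7), (16, 16, 3)] := PP.of_run 100320 r409
theorem c410 : PP 11 [(128, 4, 0), (64, 16, 3), (32, 8, 7), (16, 16, 3)] := PP.of_run 100320 r410
theorem c411 : PP 11 [(128, 8, 2), (64, 16, 3), (32, 8, 7), (16, 16, 3)] := PP.of_run 100320 r411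
theorem c412 : PP 11 [(128, 8, 6), (64, 16, 3), (32, 8, 7), (16, 16, 3)] := PP.of_run 100320 r412
theorem c413 : PP 11 [(128, 4, 1), (64, 16, 3), (32, 8, 7), (16, 16, 3)] := PP.of_run 100320 r413
theorem c414 : PP 11 [(128, 4, 3), (64, 16, 3), (32, 8, 7), (16, 16, 3)] := PP.of_run 100320 r414
theorem c415 : PP 11 [(128, 2, 0), (64, 16, 11), (32, 8, 7), (16, 16, 3)] := PP.of_run 100320 r415
theorem c416 : PP 11 [(128, 2, 1), (64, 16, 11), (32, 8, 7), (16, 16, 3)] := PP.of_run 100320 r416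
theorem c417 : PP 11 [(64, 8, 7), (32, 8, 7), (16, 16, 3)] := PP.of_run 100320 r417
theorem c418 : PP 11 [(64, 2, 0), (32, 8, 0), (16, 16, 11)] := PP.of_run 100320 r418
theorem c419 : PP 11 [(64, 2, 1), (32, 8, 0), (16, 16, 11)] := PP.of_run 100320 r419
theorem c420 : PP 11 [(32, 8, 4), (16, 16, 11)] := PP.of_run 100320 r420
theorem c421 : PP 11 [(64, 2, 0), (32, 16, 2), (16, 16, 11)] := PP.of_run 100320 r421
theorem c422 : PP 11 [(64, 2, 1), (32, 16, 2), (16, 16, 11)] := PP.of_run 100320 r422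
theorem c423 : PP 11 [(64, 2, 0), (32, 16, 10), (16, 16, 11)] := PP.of_run 100320 r423
theorem c424 : PP 11 [(64, 2, 1), (32, 16, 10), (16, 16, 11)] := PP.of_run 100320 r424
theorem c425 : PP 11 [(64, 8, 0), (32, 8, 6), (16, 16, 11)] := PP.of_run 100320 r425
theorem c426 : PP 11 [(64, 8, 4), (32, 8, 6), (16, 16, 11)] := PP.of_run 100320 r426
theorem c427 : PP 11 [(64, 4, 2), (32, 8, 6), (16, 16, 11)] := PP.of_run 100320 r427
theorem c428 : PP 11 [(64, 2, 1), (32, 8, 6), (16, 16, 11)] := PP.of_run 100320 r428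
theorem c429 : PP 11 [(32, 16, 1), (16, 16, 11)] := PP.of_run 100320 r429
theorem c430 : PP 11 [(64, 2, 0), (32, 32, 9), (16, 16, 11)] := PP.of_run 100320 r430
theorem c431 : PP 11 [(64, 4, 1), (32, 32, 9), (16, 16, 11)] := PP.of_run 100320 r431
theorem c432 : PP 11 [(64, 4, 3), (32, 32, 9), (16, 16, 11)] := PP.of_run 100320 r432
theorem c433 : PP 11 [(64, 4, 0), (32, 64, 25), (16, 16, 11)] := PP.of_run 100320 r433
theorem c434 : PP 11 [(128, 2, 0), (64, 8, 2), (32, 64, 25), (16, 16, 11)] := PP.of_run 100320 r434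
theorem c435 : PP 11 [(128, 32, 1), (64, 8, 2), (32, 64, 25), (16, 16, 11)] := PP.of_run 100320 r435
theorem c436 : PP 11 [(256, 4, 0), (128, 128, 17), (64, 8, 2), (32, 64, 25), (16, 16, 11)] := PP.of_run 100320 r436
theorem c437 : PP 11 [(256, 4, 2), (128, 128, 17), (64, 8, 2), (32, 64, 25), (16, 16, 11)] := PP.of_run 100320 r437
theorem c438 : PP 11 [(256, 2, 1), (128, 128, 17), (64, 8, 2), (32, 64, 25), (16, 16, 11)] := PP.of_run 100320 r438
theorem c439 : PP 11 [(128, 128, 81), (64, 8, 2), (32, 64, 25), (16, 16, 11)] := PP.of_run 100320 r439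
theorem c440 : PP 11 [(128, 64, 49), (64, 8, 2), (32, 64, 25), (16, 16, 11)] := PP.of_run 100320 r440
theorem c441 : PP 11 [(128, 16, 9), (64, 8, 2), (32, 64, 25), (16, 16, 11)] := PP.of_run 100320 r441
theorem c442 : PP 11 [(128, 8, 5), (64, 8, 2), (32, 64, 25), (16, 16, 11)] := PP.of_run 100320 r442
theorem c443 : PP 11 [(128, 4, 3), (64, 8, 2), (32, 64, 25), (16, 16, 11)] := PP.of_run 100320 r443
theorem c444 : PP 11 [(64, 16, 6), (32, 64, 25), (16, 16, 11)] := PP.of_run 100320 r444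
theorem c445 : PP 11 [(64, 128, 14), (32, 64, 25), (16, 16, 11)] := PP.of_run 100320 r445
theorem c446 : PP 11 [(128, 8, 0), (64, 128, 78), (32, 64, 25), (16, 16, 11)] := PP.of_run 100320 r446
theorem c447 : PP 11 [(128, 8, 4), (64, 128, 78), (32, 64, 25), (16, 16, 11)] := PP.of_run 100320 r447
theorem c448 : PP 11 [(128, 8, 2), (64, 128, 78), (32, 64, 25), (16, 16, 11)] := PP.of_run 100320 r448
theorem c449 : PP 11 [(128, 8, 6), (64, 128, 78), (32, 64, 25), (16, 16, 11)] := PP.of_run 100320 r449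
theorem c450 : PP 11 [(128, 2, 1), (64, 128, 78), (32, 64, 25), (16, 16, 11)] := PP.of_run 100320 r450
theorem c451 : PP 11 [(64, 64, 46), (32, 64, 25), (16, 16, 11)] := PP.of_run 100320 r451
theorem c452 : PP 11 [(64, 32, 30), (32, 64, 25), (16, 16, 11)] := PP.of_run 100320 r452
theorem c453 : PP 11 [(64, 4, 1), (32, 64, 25), (16, 16, 11)] := PP.of_run 100320 r453
theorem c454 : PP 11 [(64, 8, 3), (32, 64, 25), (16, 16, 11)] := PP.of_run 100320 r454
theorem c455 : PP 11 [(64, 16, 7), (32, 64, 25), (16, 16, 11)] := PP.of_run 100320 r455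
theorem c456 : PP 11 [(128, 2, 0), (64, 16, 15), (32, 64, 25), (16, 16, 11)] := PP.of_run 100320 r456
theorem c457 : PP 11 [(128, 2, 1), (64, 16, 15), (32, 64, 25), (16, 16, 11)] := PP.of_run 100320 r457
theorem c458 : PP 11 [(32, 64, 57), (16, 16, 11)] := PP.of_run 100320 r458
theorem c459 : PP 11 [(64, 2, 0), (32, 16, 5), (16, 16, 11)] := PP.of_run 100320 r459
theorem c460 : PP 11 [(64, 2, 1), (32, 16, 5), (16, 16, 11)] := PP.of_run 100320 r460
theorem c461 : PP 11 [(32, 16, 13), (16, 16, 11)] := PP.of_run 100320 r461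
theorem c462 : PP 11 [(64, 2, 0), (32, 8, 3), (16, 16, 11)] := PP.of_run 100320 r462
theorem c463 : PP 11 [(64, 2, 1), (32, 8, 3), (16, 16, 11)] := PP.of_run 100320 r463
theorem c464 : PP 11 [(32, 64, 7), (16, 16, 11)] := PP.of_run 100320 r464
theorem c465 : PP 11 [(64, 8, 0), (32, 64, 39), (16, 16, 11)] := PP.of_run 100320 r465
theorem c466 : PP 11 [(64, 8, 4), (32, 64, 39), (16, 16, 11)] := PP.of_run 100320 r466
theorem c467 : PP 11 [(64, 4, 2), (32, 64, 39), (16, 16, 11)] := PP.of_run 100320 r467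
theorem c468 : PP 11 [(64, 64, 1), (32, 64, 39), (16, 16, 11)] := PP.of_run 100320 r468
theorem c469 : PP 11 [(64, 128, 33), (32, 64, 39), (16, 16, 11)] := PP.of_run 100320 r469
theorem c470 : PP 11 [(128, 2, 0), (64, 128, 97), (32, 64, 39), (16, 16, 11)] := PP.of_run 100320 r470
theorem c471 : PP 11 [(128, 4, 1), (64, 128, 97), (32, 64, 39), (16, 16, 11)] := PP.of_run 100320 r471
theorem c472 : PP 11 [(128, 4, 3), (64, 128, 97), (32, 64, 39), (16, 16, 11)] := PP.of_run 100320 r472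
theorem c473 : PP 11 [(64, 32, 17), (32, 64, 39), (16, 16, 11)] := PP.of_run 100320 r473
theorem c474 : PP 11 [(64, 16, 9), (32, 64, 39), (16, 16, 11)] := PP.of_run 100320 r474
theorem c475 : PP 11 [(64, 8, 5), (32, 64, 39), (16, 16, 11)] := PP.of_run 100320 r475
theorem c476 : PP 11 [(64, 32, 3), (32, 64, 39), (16, 16, 11)] := PP.of_run 100320 r476
theorem c477 : PP 11 [(64, 128, 19), (32, 64, 39), (16, 16, 11)] := PP.of_run 100320 r477
theorem c478 : PP 11 [(128, 2, 0), (64, 128, 83), (32, 64, 39), (16, 16, 11)] := PP.of_run 100320 r478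
theorem c479 : PP 11 [(128, 8, 1), (64, 128, 83), (32, 64, 39), (16, 16, 11)] := PP.of_run 100320 r479
theorem c480 : PP 11 [(128, 16, 5), (64, 128, 83), (32, 64, 39), (16, 16, 11)] := PP.of_run 100320 r480
theorem c481 : PP 11 [(128, 32, 13), (64, 128, 83), (32, 64, 39), (16, 16, 11)] := PP.of_run 100320 r481
theorem c482 : PP 11 [(128, 64, 29), (64, 128, 83), (32, 64, 39), (16, 16, 11)] := PP.of_run 100320 r482
theorem c483 : PP 11 [(128, 128, 61), (64, 128, 83), (32, 64, 39), (16, 16, 11)] := PP.of_run 100320 r483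
theorem c484 : PP 11 [(256, 4, 0), (128, 128, 125), (64, 128, 83), (32, 64, 39), (16, 16, 11)] := PP.of_run 100320 r484
theorem c485 : PP 11 [(256, 4, 2), (128, 128, 125), (64, 128, 83), (32, 64, 39), (16, 16, 11)] := PP.of_run 100320 r485
theorem c486 : PP 11 [(256, 2, 1), (128, 128, 125), (64, 128, 83), (32, 64, 39), (16, 16, 11)] := PP.of_run 100320 r486
theorem c487 : PP 11 [(128, 4, 3), (64, 128, 83), (32, 64, 39), (16, 16, 11)] := PP.of_run 100320 r487
theorem c488 : PP 11 [(64, 64, 51), (32, 64, 39), (16, 16, 11)] := PP.of_run 100320 r488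
theorem c489 : PP 11 [(64, 16, 11), (32, 64, 39), (16, 16, 11)] := PP.of_run 100320 r489
theorem c490 : PP 11 [(64, 8, 7), (32, 64, 39), (16, 16, 11)] := PP.of_run 100320 r490
theorem c491 : PP 11 [(32, 32, 23), (16, 16, 11)] := PP.of_run 100320 r491
theorem c492 : PP 11 [(32, 16, 15), (16, 16, 11)] := PP.of_run 100320 r492
theorem c493 : PP 11 [(16, 16, 7)] := PP.of_run 100320 r493
theorem c494 : PP 11 [(32, 4, 0), (16, 16, 15)] := PP.of_run 100320 r494
theorem c495 : PP 11 [(32, 4, 2), (16, 16, 15)] := PP.of_run 100320 r495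
theorem c496 : PP 11 [(32, 2, 1), (16, 16, 15)] := PP.of_run 100320 r496

theorem d1 : PP 11 [(32, 16, 0), (16, 8, 0)] := PP.split c0 c1
theorem d2 : PP 11 [(32, 8, 0), (16, 8, 0)] := PP.split d1 c2
theorem d3 : PP 11 [(32, 8, 4), (16, 8, 0)] := PP.split c3 c4
theorem d4 : PP 11 [(32, 4, 0), (16, 8, 0)] := PP.split d2 d3
theorem d5 : PP 11 [(64, 2, 1), (32, 128, 102), (16, 8, 0)] := PP.split c9 c10
theorem d6 : PP 11 [(64, 1, 0), (32, 128, 102), (16, 8, 0)] := PP.split c8 d5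
theorem d7 : PP 11 [(32, 128, 102), (16, 8, 0)] := PP.deep 64 d6
theorem d8 : PP 11 [(32, 64, 38), (16, 8, 0)] := PP.split c7 d7
theorem d9 : PP 11 [(32, 32, 6), (16, 8, 0)] := PP.split c6 d8
theorem d10 : PP 11 [(32, 16, 6), (16, 8, 0)] := PP.split d9 c11
theorem d11 : PP 11 [(32, 8, 6), (16, 8, 0)] := PP.split d10 c12
theorem d12 : PP 11 [(32, 4, 2), (16, 8, 0)] := PP.split c5 d11
theorem d13 : PP 11 [(32, 2, 0), (16, 8, 0)] := PP.split d4 d12
theorem d14 : PP 11 [(32, 16, 9), (16, 8, 0)] := PP.split c14 c15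
theorem d15 : PP 11 [(32, 8, 1), (16, 8, 0)] := PP.split c13 d14
theorem d16 : PP 11 [(32, 4, 1), (16, 8, 0)] := PP.split d15 c16
theorem d17 : PP 11 [(32, 16, 11), (16, 8, 0)] := PP.split c18 c19
theorem d18 : PP 11 [(32, 8, 3), (16, 8, 0)] := PP.split c17 d17
theorem d19 : PP 11 [(64, 2, 0), (32, 128, 95), (16, 8, 0)] := PP.split c23 c24
theorem d20 : PP 11 [(64, 1, 0), (32, 128, 95), (16, 8, 0)] := PP.split d19 c25
theorem d21 : PP 11 [(32, 128, 95), (16, 8, 0)] := PP.deep 64 d20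
theorem d22 : PP 11 [(32, 64, 31), (16, 8, 0)] := PP.split c22 d21
theorem d23 : PP 11 [(32, 32, 31), (16, 8, 0)] := PP.split d22 c26
theorem d24 : PP 11 [(32, 16, 15), (16, 8, 0)] := PP.split c21 d23
theorem d25 : PP 11 [(32, 8, 7), (16, 8, 0)] := PP.split c20 d24
theorem d26 : PP 11 [(32, 4, 3), (16, 8, 0)] := PP.split d18 d25
theorem d27 : PP 11 [(32, 2, 1), (16, 8, 0)] := PP.split d16 d26
theorem d28 : PP 11 [(32, 1, 0), (16, 8, 0)] := PP.split d13 d27
theorem d29 : PP 11 [(16, 8, 0)] := PP.deep 32 d28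
theorem d30 : PP 11 [(64, 1, 0), (32, 16, 8), (16, 16, 4)] := PP.split c28 c29
theorem d31 : PP 11 [(32, 16, 8), (16, 16, 4)] := PP.deep 64 d30
theorem d32 : PP 11 [(32, 8, 0), (16, 16, 4)] := PP.split c27 d31
theorem d33 : PP 11 [(128, 1, 0), (64, 16, 12), (32, 32, 12), (16, 16, 4)] := PP.split c33 c34
theorem d34 : PP 11 [(64, 16, 12), (32, 32, 12), (16, 16, 4)] := PP.deep 128 d33
theorem d35 : PP 11 [(64, 8, 4), (32, 32, 12), (16, 16, 4)] := PP.split c32 d34
theorem d36 : PP 11 [(64, 4, 0), (32, 32, 12), (16, 16, 4)] := PP.split c31 d35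
theorem d37 : PP 11 [(64, 2, 0), (32, 32, 12), (16, 16, 4)] := PP.split d36 c35
theorem d38 : PP 11 [(64, 1, 0), (32, 32, 12), (16, 16, 4)] := PP.split d37 c36
theorem d39 : PP 11 [(32, 32, 12), (16, 16, 4)] := PP.deep 64 d38
theorem d40 : PP 11 [(32, 16, 12), (16, 16, 4)] := PP.split d39 c37
theorem d41 : PP 11 [(32, 8, 4), (16, 16, 4)] := PP.split c30 d40
theorem d42 : PP 11 [(32, 4, 0), (16, 16, 4)] := PP.split d32 d41
theorem d43 : PP 11 [(32, 2, 0), (16, 16, 4)] := PP.split d42 c38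
theorem d44 : PP 11 [(64, 2, 0), (32, 16, 11), (16, 16, 4)] := PP.split c41 c42
theorem d45 : PP 11 [(128, 2, 0), (64, 256, 183), (32, 16, 11), (16, 16, 4)] := PP.split c48 c49
theorem d46 : PP 11 [(128, 1, 0), (64, 256, 183), (32, 16, 11), (16, 16, 4)] := PP.split d45 c50
theorem d47 : PP 11 [(64, 256, 183), (32, 16, 11), (16, 16, 4)] := PP.deep 128 d46
theorem d48 : PP 11 [(64, 128, 55), (32, 16, 11), (16, 16, 4)] := PP.split c47 d47
theorem d49 : PP 11 [(64, 64, 55), (32, 16, 11), (16, 16, 4)] := PP.split d48 c51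
theorem d50 : PP 11 [(64, 32, 23), (32, 16, 11), (16, 16, 4)] := PP.split c46 d49
theorem d51 : PP 11 [(64, 16, 7), (32, 16, 11), (16, 16, 4)] := PP.split c45 d50
theorem d52 : PP 11 [(64, 8, 7), (32, 16, 11), (16, 16, 4)] := PP.split d51 c52
theorem d53 : PP 11 [(64, 4, 3), (32, 16, 11), (16, 16, 4)] := PP.split c44 d52
theorem d54 : PP 11 [(64, 2, 1), (32, 16, 11), (16, 16, 4)] := PP.split c43 d53
theorem d55 : PP 11 [(64, 1, 0), (32, 16, 11), (16, 16, 4)] := PP.split d44 d54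
theorem d56 : PP 11 [(32, 16, 11), (16, 16, 4)] := PP.deep 64 d55
theorem d57 : PP 11 [(32, 8, 3), (16, 16, 4)] := PP.split c40 d56
theorem d58 : PP 11 [(64, 64, 4), (32, 16, 7), (16, 16, 4)] := PP.split c54 c55
theorem d59 : PP 11 [(64, 32, 4), (32, 16, 7), (16, 16, 4)] := PP.split d58 c56
theorem d60 : PP 11 [(64, 16, 4), (32, 16, 7), (16, 16, 4)] := PP.split d59 c57
theorem d61 : PP 11 [(64, 8, 4), (32, 16, 7), (16, 16, 4)] := PP.split d60 c58
theorem d62 : PP 11 [(64, 4, 0), (32, 16, 7), (16, 16, 4)] := PP.split c53 d61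
theorem d63 : PP 11 [(64, 2, 0), (32, 16, 7), (16, 16, 4)] := PP.split d62 c59
theorem d64 : PP 11 [(256, 2, 1), (128, 256, 21), (64, 128, 3), (32, 16, 7), (16, 16, 4)] := PP.split c65 c66
theorem d65 : PP 11 [(256, 1, 0), (128, 256, 21), (64, 128, 3), (32, 16, 7), (16, 16, 4)] := PP.split c64 d64
theorem d66 : PP 11 [(128, 256, 21), (64, 128, 3), (32, 16, 7), (16, 16, 4)] := PP.deep 256 d65
theorem d67 : PP 11 [(128, 128, 21), (64, 128, 3), (32, 16, 7), (16, 16, 4)] := PP.split d66 c67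
theorem d68 : PP 11 [(128, 64, 21), (64, 128, 3), (32, 16, 7), (16, 16, 4)] := PP.split d67 c68
theorem d69 : PP 11 [(128, 32, 21), (64, 128, 3), (32, 16, 7), (16, 16, 4)] := PP.split d68 c69
theorem d70 : PP 11 [(128, 16, 5), (64, 128, 3), (32, 16, 7), (16, 16, 4)] := PP.split c63 d69
theorem d71 : PP 11 [(128, 8, 5), (64, 128, 3), (32, 16, 7), (16, 16, 4)] := PP.split d70 c70
theorem d72 : PP 11 [(128, 4, 1), (64, 128, 3), (32, 16, 7), (16, 16, 4)] := PP.split c62 d71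
theorem d73 : PP 11 [(128, 2, 1), (64, 128, 3), (32, 16, 7), (16, 16, 4)] := PP.split d72 c71
theorem d74 : PP 11 [(128, 1, 0), (64, 128, 3), (32, 16, 7), (16, 16, 4)] := PP.split c61 d73
theorem d75 : PP 11 [(64, 128, 3), (32, 16, 7), (16, 16, 4)] := PP.deep 128 d74
theorem d76 : PP 11 [(64, 64, 3), (32, 16, 7), (16, 16, 4)] := PP.split d75 c72
theorem d77 : PP 11 [(64, 32, 3), (32, 16, 7), (16, 16, 4)] := PP.split d76 c73
theorem d78 : PP 11 [(64, 16, 3), (32, 16, 7), (16, 16, 4)] := PP.split d77 c74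
theorem d79 : PP 11 [(64, 8, 3), (32, 16, 7), (16, 16, 4)] := PP.split d78 c75
theorem d80 : PP 11 [(256, 1, 0), (128, 128, 97), (64, 16, 15), (32, 16, 7), (16, 16, 4)] := PP.split c80 c81
theorem d81 : PP 11 [(128, 128, 97), (64, 16, 15), (32, 16, 7), (16, 16, 4)] := PP.deep 256 d80
theorem d82 : PP 11 [(128, 64, 33), (64, 16, 15), (32, 16, 7), (16, 16, 4)] := PP.split c79 d81
theorem d83 : PP 11 [(128, 32, 1), (64, 16, 15), (32, 16, 7), (16, 16, 4)] := PP.split c78 d82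
theorem d84 : PP 11 [(128, 16, 1), (64, 16, 15), (32, 16, 7), (16, 16, 4)] := PP.split d83 c82
theorem d85 : PP 11 [(128, 8, 1), (64, 16, 15), (32, 16, 7), (16, 16, 4)] := PP.split d84 c83
theorem d86 : PP 11 [(128, 4, 1), (64, 16, 15), (32, 16, 7), (16, 16, 4)] := PP.split d85 c84
theorem d87 : PP 11 [(128, 2, 1), (64, 16, 15), (32, 16, 7), (16, 16, 4)] := PP.split d86 c85
theorem d88 : PP 11 [(128, 1, 0), (64, 16, 15), (32, 16, 7), (16, 16, 4)] := PP.split c77 d87
theorem d89 : PP 11 [(64, 16, 15), (32, 16, 7), (16, 16, 4)] := PP.deep 128 d88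
theorem d90 : PP 11 [(64, 8, 7), (32, 16, 7), (16, 16, 4)] := PP.split c76 d89
theorem d91 : PP 11 [(64, 4, 3), (32, 16, 7), (16, 16, 4)] := PP.split d79 d90
theorem d92 : PP 11 [(64, 2, 1), (32, 16, 7), (16, 16, 4)] := PP.split c60 d91
theorem d93 : PP 11 [(64, 1, 0), (32, 16, 7), (16, 16, 4)] := PP.split d63 d92
theorem d94 : PP 11 [(32, 16, 7), (16, 16, 4)] := PP.deep 64 d93
theorem d95 : PP 11 [(32, 8, 7), (16, 16, 4)] := PP.split d94 c86
theorem d96 : PP 11 [(32, 4, 3), (16, 16, 4)] := PP.split d57 d95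
theorem d97 : PP 11 [(32, 2, 1), (16, 16, 4)] := PP.split c39 d96
theorem d98 : PP 11 [(32, 1, 0), (16, 16, 4)] := PP.split d43 d97
theorem d99 : PP 11 [(16, 16, 4)] := PP.deep 32 d98
theorem d100 : PP 11 [(64, 2, 0), (32, 4, 0), (16, 16, 12)] := PP.split c87 c88
theorem d101 : PP 11 [(64, 4, 3), (32, 4, 0), (16, 16, 12)] := PP.split c90 c91
theorem d102 : PP 11 [(64, 2, 1), (32, 4, 0), (16, 16, 12)] := PP.split c89 d101
theorem d103 : PP 11 [(64, 1, 0), (32, 4, 0), (16, 16, 12)] := PP.split d100 d102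
theorem d104 : PP 11 [(32, 4, 0), (16, 16, 12)] := PP.deep 64 d103
theorem d105 : PP 11 [(128, 4, 2), (64, 16, 0), (32, 8, 6), (16, 16, 12)] := PP.split c94 c95
theorem d106 : PP 11 [(128, 2, 0), (64, 16, 0), (32, 8, 6), (16, 16, 12)] := PP.split c93 d105
theorem d107 : PP 11 [(128, 2, 1), (64, 16, 0), (32, 8, 6), (16, 16, 12)] := PP.split c96 c97
theorem d108 : PP 11 [(128, 1, 0), (64, 16, 0), (32, 8, 6), (16, 16, 12)] := PP.split d106 d107
theorem d109 : PP 11 [(64, 16, 0), (32, 8, 6), (16, 16, 12)] := PP.deep 128 d108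
theorem d110 : PP 11 [(64, 8, 0), (32, 8, 6), (16, 16, 12)] := PP.split d109 c98
theorem d111 : PP 11 [(64, 4, 0), (32, 8, 6), (16, 16, 12)] := PP.split d110 c99
theorem d112 : PP 11 [(64, 4, 2), (32, 8, 6), (16, 16, 12)] := PP.split c100 c101
theorem d113 : PP 11 [(64, 2, 0), (32, 8, 6), (16, 16, 12)] := PP.split d111 d112
theorem d114 : PP 11 [(128, 4, 3), (64, 16, 9), (32, 8, 6), (16, 16, 12)] := PP.split c105 c106
theorem d115 : PP 11 [(128, 2, 1), (64, 16, 9), (32, 8, 6), (16, 16, 12)] := PP.split c104 d114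
theorem d116 : PP 11 [(128, 1, 0), (64, 16, 9), (32, 8, 6), (16, 16, 12)] := PP.split c103 d115
theorem d117 : PP 11 [(64, 16, 9), (32, 8, 6), (16, 16, 12)] := PP.deep 128 d116
theorem d118 : PP 11 [(64, 8, 1), (32, 8, 6), (16, 16, 12)] := PP.split c102 d117
theorem d119 : PP 11 [(128, 1, 0), (64, 16, 13), (32, 8, 6), (16, 16, 12)] := PP.split c108 c109
theorem d120 : PP 11 [(64, 16, 13), (32, 8, 6), (16, 16, 12)] := PP.deep 128 d119
theorem d121 : PP 11 [(64, 8, 5), (32, 8, 6), (16, 16, 12)] := PP.split c107 d120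
theorem d122 : PP 11 [(64, 4, 1), (32, 8, 6), (16, 16, 12)] := PP.split d118 d121
theorem d123 : PP 11 [(64, 2, 1), (32, 8, 6), (16, 16, 12)] := PP.split d122 c110
theorem d124 : PP 11 [(64, 1, 0), (32, 8, 6), (16, 16, 12)] := PP.split d113 d123
theorem d125 : PP 11 [(32, 8, 6), (16, 16, 12)] := PP.deep 64 d124
theorem d126 : PP 11 [(32, 4, 2), (16, 16, 12)] := PP.split c92 d125
theorem d127 : PP 11 [(32, 2, 0), (16, 16, 12)] := PP.split d104 d126
theorem d128 : PP 11 [(64, 2, 1), (32, 8, 3), (16, 16, 12)] := PP.split c113 c114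
theorem d129 : PP 11 [(64, 1, 0), (32, 8, 3), (16, 16, 12)] := PP.split c112 d128
theorem d130 : PP 11 [(32, 8, 3), (16, 16, 12)] := PP.deep 64 d129
theorem d131 : PP 11 [(128, 1, 0), (64, 16, 10), (32, 8, 7), (16, 16, 12)] := PP.split c117 c118
theorem d132 : PP 11 [(64, 16, 10), (32, 8, 7), (16, 16, 12)] := PP.deep 128 d131
theorem d133 : PP 11 [(64, 8, 2), (32, 8, 7), (16, 16, 12)] := PP.split c116 d132
theorem d134 : PP 11 [(128, 4, 1), (64, 16, 6), (32, 8, 7), (16, 16, 12)] := PP.split c120 c121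
theorem d135 : PP 11 [(128, 2, 1), (64, 16, 6), (32, 8, 7), (16, 16, 12)] := PP.split d134 c122
theorem d136 : PP 11 [(128, 1, 0), (64, 16, 6), (32, 8, 7), (16, 16, 12)] := PP.split c119 d135
theorem d137 : PP 11 [(64, 16, 6), (32, 8, 7), (16, 16, 12)] := PP.deep 128 d136
theorem d138 : PP 11 [(64, 8, 6), (32, 8, 7), (16, 16, 12)] := PP.split d137 c123
theorem d139 : PP 11 [(64, 4, 2), (32, 8, 7), (16, 16, 12)] := PP.split d133 d138
theorem d140 : PP 11 [(64, 2, 0), (32, 8, 7), (16, 16, 12)] := PP.split c115 d139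
theorem d141 : PP 11 [(128, 4, 0), (64, 512, 109), (32, 8, 7), (16, 16, 12)] := PP.split c128 c129
theorem d142 : PP 11 [(128, 2, 0), (64, 512, 109), (32, 8, 7), (16, 16, 12)] := PP.split d141 c130
theorem d143 : PP 11 [(128, 1, 0), (64, 512, 109), (32, 8, 7), (16, 16, 12)] := PP.split d142 c131
theorem d144 : PP 11 [(64, 512, 109), (32, 8, 7), (16, 16, 12)] := PP.deep 128 d143
theorem d145 : PP 11 [(64, 256, 109), (32, 8, 7), (16, 16, 12)] := PP.split d144 c132
theorem d146 : PP 11 [(64, 128, 109), (32, 8, 7), (16, 16, 12)] := PP.split d145 c133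
theorem d147 : PP 11 [(64, 64, 45), (32, 8, 7), (16, 16, 12)] := PP.split c127 d146
theorem d148 : PP 11 [(64, 32, 13), (32, 8, 7), (16, 16, 12)] := PP.split c126 d147
theorem d149 : PP 11 [(64, 16, 13), (32, 8, 7), (16, 16, 12)] := PP.split d148 c134
theorem d150 : PP 11 [(64, 8, 5), (32, 8, 7), (16, 16, 12)] := PP.split c125 d149
theorem d151 : PP 11 [(64, 4, 1), (32, 8, 7), (16, 16, 12)] := PP.split c124 d150
theorem d152 : PP 11 [(64, 4, 3), (32, 8, 7), (16, 16, 12)] := PP.split c135 c136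
theorem d153 : PP 11 [(64, 2, 1), (32, 8, 7), (16, 16, 12)] := PP.split d151 d152
theorem d154 : PP 11 [(64, 1, 0), (32, 8, 7), (16, 16, 12)] := PP.split d140 d153
theorem d155 : PP 11 [(32, 8, 7), (16, 16, 12)] := PP.deep 64 d154
theorem d156 : PP 11 [(32, 4, 3), (16, 16, 12)] := PP.split d130 d155
theorem d157 : PP 11 [(32, 2, 1), (16, 16, 12)] := PP.split c111 d156
theorem d158 : PP 11 [(32, 1, 0), (16, 16, 12)] := PP.split d127 d157
theorem d159 : PP 11 [(16, 16, 12)] := PP.deep 32 d158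
theorem d160 : PP 11 [(16, 8, 4)] := PP.split d99 d159
theorem d161 : PP 11 [(16, 4, 0)] := PP.split d29 d160
theorem d162 : PP 11 [(128, 1, 0), (64, 4, 0), (32, 8, 2), (16, 16, 2)] := PP.split c138 c139
theorem d163 : PP 11 [(64, 4, 0), (32, 8, 2), (16, 16, 2)] := PP.deep 128 d162
theorem d164 : PP 11 [(64, 2, 0), (32, 8, 2), (16, 16, 2)] := PP.split d163 c140
theorem d165 : PP 11 [(64, 1, 0), (32, 8, 2), (16, 16, 2)] := PP.split d164 c141
theorem d166 : PP 11 [(32, 8, 2), (16, 16, 2)] := PP.deep 64 d165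
theorem d167 : PP 11 [(32, 8, 6), (16, 16, 2)] := PP.split c142 c143
theorem d168 : PP 11 [(32, 4, 2), (16, 16, 2)] := PP.split d166 d167
theorem d169 : PP 11 [(32, 2, 0), (16, 16, 2)] := PP.split c137 d168
theorem d170 : PP 11 [(32, 2, 1), (16, 16, 2)] := PP.split c144 c145
theorem d171 : PP 11 [(32, 1, 0), (16, 16, 2)] := PP.split d169 d170
theorem d172 : PP 11 [(16, 16, 2)] := PP.deep 32 d171
theorem d173 : PP 11 [(128, 2, 0), (64, 16, 2), (32, 16, 4), (16, 16, 10)] := PP.split c148 c149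
theorem d174 : PP 11 [(128, 4, 1), (64, 16, 2), (32, 16, 4), (16, 16, 10)] := PP.split c150 c151
theorem d175 : PP 11 [(128, 2, 1), (64, 16, 2), (32, 16, 4), (16, 16, 10)] := PP.split d174 c152
theorem d176 : PP 11 [(128, 1, 0), (64, 16, 2), (32, 16, 4), (16, 16, 10)] := PP.split d173 d175
theorem d177 : PP 11 [(64, 16, 2), (32, 16, 4), (16, 16, 10)] := PP.deep 128 d176
theorem d178 : PP 11 [(64, 8, 2), (32, 16, 4), (16, 16, 10)] := PP.split d177 c153
theorem d179 : PP 11 [(128, 2, 0), (64, 16, 6), (32, 16, 4), (16, 16, 10)] := PP.split c154 c155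
theorem d180 : PP 11 [(128, 2, 1), (64, 16, 6), (32, 16, 4), (16, 16, 10)] := PP.split c156 c157
theorem d181 : PP 11 [(128, 1, 0), (64, 16, 6), (32, 16, 4), (16, 16, 10)] := PP.split d179 d180
theorem d182 : PP 11 [(64, 16, 6), (32, 16, 4), (16, 16, 10)] := PP.deep 128 d181
theorem d183 : PP 11 [(64, 8, 6), (32, 16, 4), (16, 16, 10)] := PP.split d182 c158
theorem d184 : PP 11 [(64, 4, 2), (32, 16, 4), (16, 16, 10)] := PP.split d178 d183
theorem d185 : PP 11 [(64, 2, 0), (32, 16, 4), (16, 16, 10)] := PP.split c147 d184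
theorem d186 : PP 11 [(256, 1, 0), (128, 64, 36), (64, 8, 1), (32, 16, 4), (16, 16, 10)] := PP.split c161 c162
theorem d187 : PP 11 [(128, 64, 36), (64, 8, 1), (32, 16, 4), (16, 16, 10)] := PP.deep 256 d186
theorem d188 : PP 11 [(128, 32, 4), (64, 8, 1), (32, 16, 4), (16, 16, 10)] := PP.split c160 d187
theorem d189 : PP 11 [(128, 16, 4), (64, 8, 1), (32, 16, 4), (16, 16, 10)] := PP.split d188 c163
theorem d190 : PP 11 [(128, 8, 4), (64, 8, 1), (32, 16, 4), (16, 16, 10)] := PP.split d189 c164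
theorem d191 : PP 11 [(128, 4, 0), (64, 8, 1), (32, 16, 4), (16, 16, 10)] := PP.split c159 d190
theorem d192 : PP 11 [(128, 2, 0), (64, 8, 1), (32, 16, 4), (16, 16, 10)] := PP.split d191 c165
theorem d193 : PP 11 [(128, 2, 1), (64, 8, 1), (32, 16, 4), (16, 16, 10)] := PP.split c166 c167
theorem d194 : PP 11 [(128, 1, 0), (64, 8, 1), (32, 16, 4), (16, 16, 10)] := PP.split d192 d193
theorem d195 : PP 11 [(64, 8, 1), (32, 16, 4), (16, 16, 10)] := PP.deep 128 d194
theorem d196 : PP 11 [(64, 4, 1), (32, 16, 4), (16, 16, 10)] := PP.split d195 c168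
theorem d197 : PP 11 [(128, 1, 0), (64, 8, 7), (32, 16, 4), (16, 16, 10)] := PP.split c170 c171
theorem d198 : PP 11 [(64, 8, 7), (32, 16, 4), (16, 16, 10)] := PP.deep 128 d197
theorem d199 : PP 11 [(64, 4, 3), (32, 16, 4), (16, 16, 10)] := PP.split c169 d198
theorem d200 : PP 11 [(64, 2, 1), (32, 16, 4), (16, 16, 10)] := PP.split d196 d199
theorem d201 : PP 11 [(64, 1, 0), (32, 16, 4), (16, 16, 10)] := PP.split d185 d200
theorem d202 : PP 11 [(32, 16, 4), (16, 16, 10)] := PP.deep 64 d201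
theorem d203 : PP 11 [(64, 1, 0), (32, 16, 12), (16, 16, 10)] := PP.split c172 c173
theorem d204 : PP 11 [(32, 16, 12), (16, 16, 10)] := PP.deep 64 d203
theorem d205 : PP 11 [(32, 8, 4), (16, 16, 10)] := PP.split d202 d204
theorem d206 : PP 11 [(32, 4, 0), (16, 16, 10)] := PP.split c146 d205
theorem d207 : PP 11 [(64, 1, 0), (32, 16, 2), (16, 16, 10)] := PP.split c174 c175
theorem d208 : PP 11 [(32, 16, 2), (16, 16, 10)] := PP.deep 64 d207
theorem d209 : PP 11 [(32, 8, 2), (16, 16, 10)] := PP.split d208 c176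
theorem d210 : PP 11 [(32, 8, 6), (16, 16, 10)] := PP.split c177 c178
theorem d211 : PP 11 [(32, 4, 2), (16, 16, 10)] := PP.split d209 d210
theorem d212 : PP 11 [(32, 2, 0), (16, 16, 10)] := PP.split d206 d211
theorem d213 : PP 11 [(128, 2, 0), (64, 8, 2), (32, 32, 13), (16, 16, 10)] := PP.split c182 c183
theorem d214 : PP 11 [(128, 4, 3), (64, 8, 2), (32, 32, 13), (16, 16, 10)] := PP.split c185 c186
theorem d215 : PP 11 [(128, 2, 1), (64, 8, 2), (32, 32, 13), (16, 16, 10)] := PP.split c184 d214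
theorem d216 : PP 11 [(128, 1, 0), (64, 8, 2), (32, 32, 13), (16, 16, 10)] := PP.split d213 d215
theorem d217 : PP 11 [(64, 8, 2), (32, 32, 13), (16, 16, 10)] := PP.deep 128 d216
theorem d218 : PP 11 [(128, 1, 0), (64, 8, 6), (32, 32, 13), (16, 16, 10)] := PP.split c187 c188
theorem d219 : PP 11 [(64, 8, 6), (32, 32, 13), (16, 16, 10)] := PP.deep 128 d218
theorem d220 : PP 11 [(64, 4, 2), (32, 32, 13), (16, 16, 10)] := PP.split d217 d219
theorem d221 : PP 11 [(64, 2, 0), (32, 32, 13), (16, 16, 10)] := PP.split c181 d220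
theorem d222 : PP 11 [(128, 4, 2), (64, 4, 1), (32, 32, 13), (16, 16, 10)] := PP.split c190 c191
theorem d223 : PP 11 [(128, 2, 0), (64, 4, 1), (32, 32, 13), (16, 16, 10)] := PP.split c189 d222
theorem d224 : PP 11 [(128, 2, 1), (64, 4, 1), (32, 32, 13), (16, 16, 10)] := PP.split c192 c193
theorem d225 : PP 11 [(128, 1, 0), (64, 4, 1), (32, 32, 13), (16, 16, 10)] := PP.split d223 d224
theorem d226 : PP 11 [(64, 4, 1), (32, 32, 13), (16, 16, 10)] := PP.deep 128 d225
theorem d227 : PP 11 [(64, 4, 3), (32, 32, 13), (16, 16, 10)] := PP.split c194 c195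
theorem d228 : PP 11 [(64, 2, 1), (32, 32, 13), (16, 16, 10)] := PP.split d226 d227
theorem d229 : PP 11 [(64, 1, 0), (32, 32, 13), (16, 16, 10)] := PP.split d221 d228
theorem d230 : PP 11 [(32, 32, 13), (16, 16, 10)] := PP.deep 64 d229
theorem d231 : PP 11 [(32, 16, 13), (16, 16, 10)] := PP.split d230 c196
theorem d232 : PP 11 [(32, 8, 5), (16, 16, 10)] := PP.split c180 d231
theorem d233 : PP 11 [(32, 4, 1), (16, 16, 10)] := PP.split c179 d232
theorem d234 : PP 11 [(128, 8, 4), (64, 8, 0), (32, 32, 27), (16, 16, 10)] := PP.split c200 c201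
theorem d235 : PP 11 [(128, 4, 0), (64, 8, 0), (32, 32, 27), (16, 16, 10)] := PP.split c199 d234
theorem d236 : PP 11 [(128, 2, 0), (64, 8, 0), (32, 32, 27), (16, 16, 10)] := PP.split d235 c202
theorem d237 : PP 11 [(128, 2, 1), (64, 8, 0), (32, 32, 27), (16, 16, 10)] := PP.split c203 c204
theorem d238 : PP 11 [(128, 1, 0), (64, 8, 0), (32, 32, 27), (16, 16, 10)] := PP.split d236 d237
theorem d239 : PP 11 [(64, 8, 0), (32, 32, 27), (16, 16, 10)] := PP.deep 128 d238
theorem d240 : PP 11 [(64, 4, 0), (32, 32, 27), (16, 16, 10)] := PP.split d239 c205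
theorem d241 : PP 11 [(128, 2, 0), (64, 16, 6), (32, 32, 27), (16, 16, 10)] := PP.split c207 c208
theorem d242 : PP 11 [(128, 2, 1), (64, 16, 6), (32, 32, 27), (16, 16, 10)] := PP.split c209 c210
theorem d243 : PP 11 [(128, 1, 0), (64, 16, 6), (32, 32, 27), (16, 16, 10)] := PP.split d241 d242
theorem d244 : PP 11 [(64, 16, 6), (32, 32, 27), (16, 16, 10)] := PP.deep 128 d243
theorem d245 : PP 11 [(64, 8, 6), (32, 32, 27), (16, 16, 10)] := PP.split d244 c211
theorem d246 : PP 11 [(64, 4, 2), (32, 32, 27), (16, 16, 10)] := PP.split c206 d245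
theorem d247 : PP 11 [(64, 2, 0), (32, 32, 27), (16, 16, 10)] := PP.split d240 d246
theorem d248 : PP 11 [(128, 1, 0), (64, 16, 13), (32, 32, 27), (16, 16, 10)] := PP.split c214 c215
theorem d249 : PP 11 [(64, 16, 13), (32, 32, 27), (16, 16, 10)] := PP.deep 128 d248
theorem d250 : PP 11 [(64, 8, 5), (32, 32, 27), (16, 16, 10)] := PP.split c213 d249
theorem d251 : PP 11 [(64, 4, 1), (32, 32, 27), (16, 16, 10)] := PP.split c212 d250
theorem d252 : PP 11 [(128, 2, 0), (64, 16, 15), (32, 32, 27), (16, 16, 10)] := PP.split c218 c219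
theorem d253 : PP 11 [(256, 1, 0), (128, 64, 39), (64, 16, 15), (32, 32, 27), (16, 16, 10)] := PP.split c223 c224
theorem d254 : PP 11 [(128, 64, 39), (64, 16, 15), (32, 32, 27), (16, 16, 10)] := PP.deep 256 d253
theorem d255 : PP 11 [(128, 32, 7), (64, 16, 15), (32, 32, 27), (16, 16, 10)] := PP.split c222 d254
theorem d256 : PP 11 [(128, 16, 7), (64, 16, 15), (32, 32, 27), (16, 16, 10)] := PP.split d255 c225
theorem d257 : PP 11 [(128, 8, 7), (64, 16, 15), (32, 32, 27), (16, 16, 10)] := PP.split d256 c226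
theorem d258 : PP 11 [(128, 4, 3), (64, 16, 15), (32, 32, 27), (16, 16, 10)] := PP.split c221 d257
theorem d259 : PP 11 [(128, 2, 1), (64, 16, 15), (32, 32, 27), (16, 16, 10)] := PP.split c220 d258
theorem d260 : PP 11 [(128, 1, 0), (64, 16, 15), (32, 32, 27), (16, 16, 10)] := PP.split d252 d259
theorem d261 : PP 11 [(64, 16, 15), (32, 32, 27), (16, 16, 10)] := PP.deep 128 d260
theorem d262 : PP 11 [(64, 8, 7), (32, 32, 27), (16, 16, 10)] := PP.split c217 d261
theorem d263 : PP 11 [(64, 4, 3), (32, 32, 27), (16, 16, 10)] := PP.split c216 d262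
theorem d264 : PP 11 [(64, 2, 1), (32, 32, 27), (16, 16, 10)] := PP.split d251 d263
theorem d265 : PP 11 [(64, 1, 0), (32, 32, 27), (16, 16, 10)] := PP.split d247 d264
theorem d266 : PP 11 [(32, 32, 27), (16, 16, 10)] := PP.deep 64 d265
theorem d267 : PP 11 [(32, 16, 11), (16, 16, 10)] := PP.split c198 d266
theorem d268 : PP 11 [(32, 8, 3), (16, 16, 10)] := PP.split c197 d267
theorem d269 : PP 11 [(32, 4, 3), (16, 16, 10)] := PP.split d268 c227
theorem d270 : PP 11 [(32, 2, 1), (16, 16, 10)] := PP.split d233 d269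
theorem d271 : PP 11 [(32, 1, 0), (16, 16, 10)] := PP.split d212 d270
theorem d272 : PP 11 [(16, 16, 10)] := PP.deep 32 d271
theorem d273 : PP 11 [(16, 8, 2)] := PP.split d172 d272
theorem d274 : PP 11 [(64, 1, 0), (32, 8, 2), (16, 16, 6)] := PP.split c229 c230
theorem d275 : PP 11 [(32, 8, 2), (16, 16, 6)] := PP.deep 64 d274
theorem d276 : PP 11 [(32, 4, 2), (16, 16, 6)] := PP.split d275 c231
theorem d277 : PP 11 [(32, 2, 0), (16, 16, 6)] := PP.split c228 d276
theorem d278 : PP 11 [(32, 4, 3), (16, 16, 6)] := PP.split c233 c234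
theorem d279 : PP 11 [(32, 2, 1), (16, 16, 6)] := PP.split c232 d278
theorem d280 : PP 11 [(32, 1, 0), (16, 16, 6)] := PP.split d277 d279
theorem d281 : PP 11 [(16, 16, 6)] := PP.deep 32 d280
theorem d282 : PP 11 [(64, 1, 0), (32, 16, 12), (16, 16, 14)] := PP.split c237 c238
theorem d283 : PP 11 [(32, 16, 12), (16, 16, 14)] := PP.deep 64 d282
theorem d284 : PP 11 [(32, 8, 4), (16, 16, 14)] := PP.split c236 d283
theorem d285 : PP 11 [(32, 4, 0), (16, 16, 14)] := PP.split c235 d284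
theorem d286 : PP 11 [(32, 2, 0), (16, 16, 14)] := PP.split d285 c239
theorem d287 : PP 11 [(32, 1, 0), (16, 16, 14)] := PP.split d286 c240
theorem d288 : PP 11 [(16, 16, 14)] := PP.deep 32 d287
theorem d289 : PP 11 [(16, 8, 6)] := PP.split d281 d288
theorem d290 : PP 11 [(16, 4, 2)] := PP.split d273 d289
theorem d291 : PP 11 [(16, 2, 0)] := PP.split d161 d290
theorem d292 : PP 11 [(32, 4, 2), (16, 16, 1)] := PP.split c242 c243
theorem d293 : PP 11 [(32, 2, 0), (16, 16, 1)] := PP.split c241 d292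
theorem d294 : PP 11 [(32, 4, 1), (16, 16, 1)] := PP.split c244 c245
theorem d295 : PP 11 [(32, 2, 1), (16, 16, 1)] := PP.split d294 c246
theorem d296 : PP 11 [(32, 1, 0), (16, 16, 1)] := PP.split d293 d295
theorem d297 : PP 11 [(16, 16, 1)] := PP.deep 32 d296
theorem d298 : PP 11 [(64, 2, 0), (32, 8, 4), (16, 16, 9)] := PP.split c248 c249
theorem d299 : PP 11 [(64, 1, 0), (32, 8, 4), (16, 16, 9)] := PP.split d298 c250
theorem d300 : PP 11 [(32, 8, 4), (16, 16, 9)] := PP.deep 64 d299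
theorem d301 : PP 11 [(32, 4, 0), (16, 16, 9)] := PP.split c247 d300
theorem d302 : PP 11 [(32, 2, 0), (16, 16, 9)] := PP.split d301 c251
theorem d303 : PP 11 [(32, 4, 3), (16, 16, 9)] := PP.split c253 c254
theorem d304 : PP 11 [(32, 2, 1), (16, 16, 9)] := PP.split c252 d303
theorem d305 : PP 11 [(32, 1, 0), (16, 16, 9)] := PP.split d302 d304
theorem d306 : PP 11 [(16, 16, 9)] := PP.deep 32 d305
theorem d307 : PP 11 [(16, 8, 1)] := PP.split d297 d306
theorem d308 : PP 11 [(64, 1, 0), (32, 8, 0), (16, 16, 5)] := PP.split c255 c256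
theorem d309 : PP 11 [(32, 8, 0), (16, 16, 5)] := PP.deep 64 d308
theorem d310 : PP 11 [(32, 4, 0), (16, 16, 5)] := PP.split d309 c257
theorem d311 : PP 11 [(32, 2, 0), (16, 16, 5)] := PP.split d310 c258
theorem d312 : PP 11 [(32, 4, 1), (16, 16, 5)] := PP.split c259 c260
theorem d313 : PP 11 [(32, 2, 1), (16, 16, 5)] := PP.split d312 c261
theorem d314 : PP 11 [(32, 1, 0), (16, 16, 5)] := PP.split d311 d313
theorem d315 : PP 11 [(16, 16, 5)] := PP.deep 32 d314
theorem d316 : PP 11 [(64, 2, 0), (32, 32, 24), (16, 16, 13)] := PP.split c264 c265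
theorem d317 : PP 11 [(64, 1, 0), (32, 32, 24), (16, 16, 13)] := PP.split d316 c266
theorem d318 : PP 11 [(32, 32, 24), (16, 16, 13)] := PP.deep 64 d317
theorem d319 : PP 11 [(32, 16, 8), (16, 16, 13)] := PP.split c263 d318
theorem d320 : PP 11 [(32, 8, 0), (16, 16, 13)] := PP.split c262 d319
theorem d321 : PP 11 [(64, 1, 0), (32, 8, 4), (16, 16, 13)] := PP.split c267 c268
theorem d322 : PP 11 [(32, 8, 4), (16, 16, 13)] := PP.deep 64 d321
theorem d323 : PP 11 [(32, 4, 0), (16, 16, 13)] := PP.split d320 d322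
theorem d324 : PP 11 [(32, 8, 6), (16, 16, 13)] := PP.split c270 c271
theorem d325 : PP 11 [(32, 4, 2), (16, 16, 13)] := PP.split c269 d324
theorem d326 : PP 11 [(32, 2, 0), (16, 16, 13)] := PP.split d323 d325
theorem d327 : PP 11 [(64, 1, 0), (32, 8, 5), (16, 16, 13)] := PP.split c273 c274
theorem d328 : PP 11 [(32, 8, 5), (16, 16, 13)] := PP.deep 64 d327
theorem d329 : PP 11 [(32, 4, 1), (16, 16, 13)] := PP.split c272 d328
theorem d330 : PP 11 [(128, 1, 0), (64, 16, 6), (32, 8, 3), (16, 16, 13)] := PP.split c277 c278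
theorem d331 : PP 11 [(64, 16, 6), (32, 8, 3), (16, 16, 13)] := PP.deep 128 d330
theorem d332 : PP 11 [(64, 8, 6), (32, 8, 3), (16, 16, 13)] := PP.split d331 c279
theorem d333 : PP 11 [(64, 4, 2), (32, 8, 3), (16, 16, 13)] := PP.split c276 d332
theorem d334 : PP 11 [(64, 2, 0), (32, 8, 3), (16, 16, 13)] := PP.split c275 d333
theorem d335 : PP 11 [(256, 1, 0), (128, 128, 111), (64, 8, 1), (32, 8, 3), (16, 16, 13)] := PP.split c286 c287
theorem d336 : PP 11 [(128, 128, 111), (64, 8, 1), (32, 8, 3), (16, 16, 13)] := PP.deep 256 d335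
theorem d337 : PP 11 [(128, 64, 47), (64, 8, 1), (32, 8, 3), (16, 16, 13)] := PP.split c285 d336
theorem d338 : PP 11 [(128, 32, 15), (64, 8, 1), (32, 8, 3), (16, 16, 13)] := PP.split c284 d337
theorem d339 : PP 11 [(128, 16, 15), (64, 8, 1), (32, 8, 3), (16, 16, 13)] := PP.split d338 c288
theorem d340 : PP 11 [(128, 8, 7), (64, 8, 1), (32, 8, 3), (16, 16, 13)] := PP.split c283 d339
theorem d341 : PP 11 [(128, 4, 3), (64, 8, 1), (32, 8, 3), (16, 16, 13)] := PP.split c282 d340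
theorem d342 : PP 11 [(128, 2, 1), (64, 8, 1), (32, 8, 3), (16, 16, 13)] := PP.split c281 d341
theorem d343 : PP 11 [(128, 1, 0), (64, 8, 1), (32, 8, 3), (16, 16, 13)] := PP.split c280 d342
theorem d344 : PP 11 [(64, 8, 1), (32, 8, 3), (16, 16, 13)] := PP.deep 128 d343
theorem d345 : PP 11 [(128, 8, 6), (64, 32, 5), (32, 8, 3), (16, 16, 13)] := PP.split c291 c292
theorem d346 : PP 11 [(128, 4, 2), (64, 32, 5), (32, 8, 3), (16, 16, 13)] := PP.split c290 d345
theorem d347 : PP 11 [(128, 2, 0), (64, 32, 5), (32, 8, 3), (16, 16, 13)] := PP.split c289 d346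
theorem d348 : PP 11 [(128, 1, 0), (64, 32, 5), (32, 8, 3), (16, 16, 13)] := PP.split d347 c293
theorem d349 : PP 11 [(64, 32, 5), (32, 8, 3), (16, 16, 13)] := PP.deep 128 d348
theorem d350 : PP 11 [(64, 16, 5), (32, 8, 3), (16, 16, 13)] := PP.split d349 c294
theorem d351 : PP 11 [(64, 8, 5), (32, 8, 3), (16, 16, 13)] := PP.split d350 c295
theorem d352 : PP 11 [(64, 4, 1), (32, 8, 3), (16, 16, 13)] := PP.split d344 d351
theorem d353 : PP 11 [(64, 2, 1), (32, 8, 3), (16, 16, 13)] := PP.split d352 c296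
theorem d354 : PP 11 [(64, 1, 0), (32, 8, 3), (16, 16, 13)] := PP.split d334 d353
theorem d355 : PP 11 [(32, 8, 3), (16, 16, 13)] := PP.deep 64 d354
theorem d356 : PP 11 [(64, 4, 0), (32, 32, 23), (16, 16, 13)] := PP.split c298 c299
theorem d357 : PP 11 [(64, 2, 0), (32, 32, 23), (16, 16, 13)] := PP.split d356 c300
theorem d358 : PP 11 [(64, 128, 89), (32, 32, 23), (16, 16, 13)] := PP.split c304 c305
theorem d359 : PP 11 [(64, 64, 25), (32, 32, 23), (16, 16, 13)] := PP.split c303 d358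
theorem d360 : PP 11 [(64, 32, 25), (32, 32, 23), (16, 16, 13)] := PP.split d359 c306
theorem d361 : PP 11 [(64, 16, 9), (32, 32, 23), (16, 16, 13)] := PP.split c302 d360
theorem d362 : PP 11 [(64, 8, 1), (32, 32, 23), (16, 16, 13)] := PP.split c301 d361
theorem d363 : PP 11 [(64, 4, 1), (32, 32, 23), (16, 16, 13)] := PP.split d362 c307
theorem d364 : PP 11 [(128, 1, 0), (64, 128, 39), (32, 32, 23), (16, 16, 13)] := PP.split c310 c311
theorem d365 : PP 11 [(64, 128, 39), (32, 32, 23), (16, 16, 13)] := PP.deep 128 d364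
theorem d366 : PP 11 [(64, 64, 39), (32, 32, 23), (16, 16, 13)] := PP.split d365 c312
theorem d367 : PP 11 [(64, 32, 7), (32, 32, 23), (16, 16, 13)] := PP.split c309 d366
theorem d368 : PP 11 [(64, 16, 7), (32, 32, 23), (16, 16, 13)] := PP.split d367 c313
theorem d369 : PP 11 [(64, 8, 7), (32, 32, 23), (16, 16, 13)] := PP.split d368 c314
theorem d370 : PP 11 [(64, 4, 3), (32, 32, 23), (16, 16, 13)] := PP.split c308 d369
theorem d371 : PP 11 [(64, 2, 1), (32, 32, 23), (16, 16, 13)] := PP.split d363 d370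
theorem d372 : PP 11 [(64, 1, 0), (32, 32, 23), (16, 16, 13)] := PP.split d357 d371
theorem d373 : PP 11 [(32, 32, 23), (16, 16, 13)] := PP.deep 64 d372
theorem d374 : PP 11 [(32, 16, 7), (16, 16, 13)] := PP.split c297 d373
theorem d375 : PP 11 [(32, 8, 7), (16, 16, 13)] := PP.split d374 c315
theorem d376 : PP 11 [(32, 4, 3), (16, 16, 13)] := PP.split d355 d375
theorem d377 : PP 11 [(32, 2, 1), (16, 16, 13)] := PP.split d329 d376
theorem d378 : PP 11 [(32, 1, 0), (16, 16, 13)] := PP.split d326 d377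
theorem d379 : PP 11 [(16, 16, 13)] := PP.deep 32 d378
theorem d380 : PP 11 [(16, 8, 5)] := PP.split d315 d379
theorem d381 : PP 11 [(16, 4, 1)] := PP.split d307 d380
theorem d382 : PP 11 [(64, 1, 0), (32, 8, 0), (16, 16, 3)] := PP.split c316 c317
theorem d383 : PP 11 [(32, 8, 0), (16, 16, 3)] := PP.deep 64 d382
theorem d384 : PP 11 [(128, 1, 0), (64, 512, 412), (32, 8, 4), (16, 16, 3)] := PP.split c323 c324
theorem d385 : PP 11 [(64, 512, 412), (32, 8, 4), (16, 16, 3)] := PP.deep 128 d384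
theorem d386 : PP 11 [(64, 256, 156), (32, 8, 4), (16, 16, 3)] := PP.split c322 d385
theorem d387 : PP 11 [(64, 128, 28), (32, 8, 4), (16, 16, 3)] := PP.split c321 d386
theorem d388 : PP 11 [(64, 64, 28), (32, 8, 4), (16, 16, 3)] := PP.split d387 c325
theorem d389 : PP 11 [(64, 32, 28), (32, 8, 4), (16, 16, 3)] := PP.split d388 c326
theorem d390 : PP 11 [(64, 16, 12), (32, 8, 4), (16, 16, 3)] := PP.split c320 d389
theorem d391 : PP 11 [(64, 8, 4), (32, 8, 4), (16, 16, 3)] := PP.split c319 d390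
theorem d392 : PP 11 [(64, 4, 0), (32, 8, 4), (16, 16, 3)] := PP.split c318 d391
theorem d393 : PP 11 [(64, 2, 0), (32, 8, 4), (16, 16, 3)] := PP.split d392 c327
theorem d394 : PP 11 [(128, 1, 0), (64, 64, 17), (32, 8, 4), (16, 16, 3)] := PP.split c329 c330
theorem d395 : PP 11 [(64, 64, 17), (32, 8, 4), (16, 16, 3)] := PP.deep 128 d394
theorem d396 : PP 11 [(64, 32, 17), (32, 8, 4), (16, 16, 3)] := PP.split d395 c331
theorem d397 : PP 11 [(64, 16, 1), (32, 8, 4), (16, 16, 3)] := PP.split c328 d396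
theorem d398 : PP 11 [(64, 8, 1), (32, 8, 4), (16, 16, 3)] := PP.split d397 c332
theorem d399 : PP 11 [(64, 4, 1), (32, 8, 4), (16, 16, 3)] := PP.split d398 c333
theorem d400 : PP 11 [(128, 1, 0), (64, 32, 3), (32, 8, 4), (16, 16, 3)] := PP.split c334 c335
theorem d401 : PP 11 [(64, 32, 3), (32, 8, 4), (16, 16, 3)] := PP.deep 128 d400
theorem d402 : PP 11 [(64, 16, 3), (32, 8, 4), (16, 16, 3)] := PP.split d401 c336
theorem d403 : PP 11 [(64, 8, 3), (32, 8, 4), (16, 16, 3)] := PP.split d402 c337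
theorem d404 : PP 11 [(64, 4, 3), (32, 8, 4), (16, 16, 3)] := PP.split d403 c338
theorem d405 : PP 11 [(64, 2, 1), (32, 8, 4), (16, 16, 3)] := PP.split d399 d404
theorem d406 : PP 11 [(64, 1, 0), (32, 8, 4), (16, 16, 3)] := PP.split d393 d405
theorem d407 : PP 11 [(32, 8, 4), (16, 16, 3)] := PP.deep 64 d406
theorem d408 : PP 11 [(32, 4, 0), (16, 16, 3)] := PP.split d383 d407
theorem d409 : PP 11 [(128, 1, 0), (64, 32, 0), (32, 8, 6), (16, 16, 3)] := PP.split c340 c341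
theorem d410 : PP 11 [(64, 32, 0), (32, 8, 6), (16, 16, 3)] := PP.deep 128 d409
theorem d411 : PP 11 [(64, 16, 0), (32, 8, 6), (16, 16, 3)] := PP.split d410 c342
theorem d412 : PP 11 [(64, 8, 0), (32, 8, 6), (16, 16, 3)] := PP.split d411 c343
theorem d413 : PP 11 [(64, 4, 0), (32, 8, 6), (16, 16, 3)] := PP.split d412 c344
theorem d414 : PP 11 [(256, 1, 0), (128, 64, 20), (64, 32, 6), (32, 8, 6), (16, 16, 3)] := PP.split c348 c349
theorem d415 : PP 11 [(128, 64, 20), (64, 32, 6), (32, 8, 6), (16, 16, 3)] := PP.deep 256 d414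
theorem d416 : PP 11 [(128, 32, 20), (64, 32, 6), (32, 8, 6), (16, 16, 3)] := PP.split d415 c350
theorem d417 : PP 11 [(128, 16, 4), (64, 32, 6), (32, 8, 6), (16, 16, 3)] := PP.split c347 d416
theorem d418 : PP 11 [(128, 8, 4), (64, 32, 6), (32, 8, 6), (16, 16, 3)] := PP.split d417 c351
theorem d419 : PP 11 [(128, 4, 0), (64, 32, 6), (32, 8, 6), (16, 16, 3)] := PP.split c346 d418
theorem d420 : PP 11 [(128, 2, 0), (64, 32, 6), (32, 8, 6), (16, 16, 3)] := PP.split d419 c352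
theorem d421 : PP 11 [(128, 2, 1), (64, 32, 6), (32, 8, 6), (16, 16, 3)] := PP.split c353 c354
theorem d422 : PP 11 [(128, 1, 0), (64, 32, 6), (32, 8, 6), (16, 16, 3)] := PP.split d420 d421
theorem d423 : PP 11 [(64, 32, 6), (32, 8, 6), (16, 16, 3)] := PP.deep 128 d422
theorem d424 : PP 11 [(64, 16, 6), (32, 8, 6), (16, 16, 3)] := PP.split d423 c355
theorem d425 : PP 11 [(128, 1, 0), (64, 32, 14), (32, 8, 6), (16, 16, 3)] := PP.split c356 c357
theorem d426 : PP 11 [(64, 32, 14), (32, 8, 6), (16, 16, 3)] := PP.deep 128 d425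
theorem d427 : PP 11 [(64, 16, 14), (32, 8, 6), (16, 16, 3)] := PP.split d426 c358
theorem d428 : PP 11 [(64, 8, 6), (32, 8, 6), (16, 16, 3)] := PP.split d424 d427
theorem d429 : PP 11 [(64, 4, 2), (32, 8, 6), (16, 16, 3)] := PP.split c345 d428
theorem d430 : PP 11 [(64, 2, 0), (32, 8, 6), (16, 16, 3)] := PP.split d413 d429
theorem d431 : PP 11 [(128, 1, 0), (64, 32, 25), (32, 8, 6), (16, 16, 3)] := PP.split c361 c362
theorem d432 : PP 11 [(64, 32, 25), (32, 8, 6), (16, 16, 3)] := PP.deep 128 d431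
theorem d433 : PP 11 [(64, 16, 9), (32, 8, 6), (16, 16, 3)] := PP.split c360 d432
theorem d434 : PP 11 [(64, 8, 1), (32, 8, 6), (16, 16, 3)] := PP.split c359 d433
theorem d435 : PP 11 [(64, 4, 1), (32, 8, 6), (16, 16, 3)] := PP.split d434 c363
theorem d436 : PP 11 [(128, 2, 1), (64, 16, 3), (32, 8, 6), (16, 16, 3)] := PP.split c365 c366
theorem d437 : PP 11 [(128, 1, 0), (64, 16, 3), (32, 8, 6), (16, 16, 3)] := PP.split c364 d436
theorem d438 : PP 11 [(64, 16, 3), (32, 8, 6), (16, 16, 3)] := PP.deep 128 d437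
theorem d439 : PP 11 [(64, 8, 3), (32, 8, 6), (16, 16, 3)] := PP.split d438 c367
theorem d440 : PP 11 [(128, 4, 0), (64, 32, 31), (32, 8, 6), (16, 16, 3)] := PP.split c370 c371
theorem d441 : PP 11 [(128, 2, 0), (64, 32, 31), (32, 8, 6), (16, 16, 3)] := PP.split d440 c372
theorem d442 : PP 11 [(128, 1, 0), (64, 32, 31), (32, 8, 6), (16, 16, 3)] := PP.split d441 c373
theorem d443 : PP 11 [(64, 32, 31), (32, 8, 6), (16, 16, 3)] := PP.deep 128 d442
theorem d444 : PP 11 [(64, 16, 15), (32, 8, 6), (16, 16, 3)] := PP.split c369 d443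
theorem d445 : PP 11 [(64, 8, 7), (32, 8, 6), (16, 16, 3)] := PP.split c368 d444
theorem d446 : PP 11 [(64, 4, 3), (32, 8, 6), (16, 16, 3)] := PP.split d439 d445
theorem d447 : PP 11 [(64, 2, 1), (32, 8, 6), (16, 16, 3)] := PP.split d435 d446
theorem d448 : PP 11 [(64, 1, 0), (32, 8, 6), (16, 16, 3)] := PP.split d430 d447
theorem d449 : PP 11 [(32, 8, 6), (16, 16, 3)] := PP.deep 64 d448
theorem d450 : PP 11 [(32, 4, 2), (16, 16, 3)] := PP.split c339 d449
theorem d451 : PP 11 [(32, 2, 0), (16, 16, 3)] := PP.split d408 d450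
theorem d452 : PP 11 [(128, 1, 0), (64, 8, 4), (32, 8, 5), (16, 16, 3)] := PP.split c376 c377
theorem d453 : PP 11 [(64, 8, 4), (32, 8, 5), (16, 16, 3)] := PP.deep 128 d452
theorem d454 : PP 11 [(64, 4, 0), (32, 8, 5), (16, 16, 3)] := PP.split c375 d453
theorem d455 : PP 11 [(64, 4, 2), (32, 8, 5), (16, 16, 3)] := PP.split c378 c379
theorem d456 : PP 11 [(64, 2, 0), (32, 8, 5), (16, 16, 3)] := PP.split d454 d455
theorem d457 : PP 11 [(128, 1, 0), (64, 16, 1), (32, 8, 5), (16, 16, 3)] := PP.split c380 c381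
theorem d458 : PP 11 [(64, 16, 1), (32, 8, 5), (16, 16, 3)] := PP.deep 128 d457
theorem d459 : PP 11 [(64, 8, 1), (32, 8, 5), (16, 16, 3)] := PP.split d458 c382
theorem d460 : PP 11 [(64, 4, 1), (32, 8, 5), (16, 16, 3)] := PP.split d459 c383
theorem d461 : PP 11 [(128, 1, 0), (64, 16, 3), (32, 8, 5), (16, 16, 3)] := PP.split c384 c385
theorem d462 : PP 11 [(64, 16, 3), (32, 8, 5), (16, 16, 3)] := PP.deep 128 d461
theorem d463 : PP 11 [(64, 8, 3), (32, 8, 5), (16, 16, 3)] := PP.split d462 c386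
theorem d464 : PP 11 [(64, 4, 3), (32, 8, 5), (16, 16, 3)] := PP.split d463 c387
theorem d465 : PP 11 [(64, 2, 1), (32, 8, 5), (16, 16, 3)] := PP.split d460 d464
theorem d466 : PP 11 [(64, 1, 0), (32, 8, 5), (16, 16, 3)] := PP.split d456 d465
theorem d467 : PP 11 [(32, 8, 5), (16, 16, 3)] := PP.deep 64 d466
theorem d468 : PP 11 [(32, 4, 1), (16, 16, 3)] := PP.split c374 d467
theorem d469 : PP 11 [(64, 2, 0), (32, 8, 3), (16, 16, 3)] := PP.split c388 c389
theorem d470 : PP 11 [(64, 2, 1), (32, 8, 3), (16, 16, 3)] := PP.split c390 c391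
theorem d471 : PP 11 [(64, 1, 0), (32, 8, 3), (16, 16, 3)] := PP.split d469 d470
theorem d472 : PP 11 [(32, 8, 3), (16, 16, 3)] := PP.deep 64 d471
theorem d473 : PP 11 [(128, 1, 0), (64, 32, 16), (32, 8, 7), (16, 16, 3)] := PP.split c393 c394
theorem d474 : PP 11 [(64, 32, 16), (32, 8, 7), (16, 16, 3)] := PP.deep 128 d473
theorem d475 : PP 11 [(64, 16, 0), (32, 8, 7), (16, 16, 3)] := PP.split c392 d474
theorem d476 : PP 11 [(64, 8, 0), (32, 8, 7), (16, 16, 3)] := PP.split d475 c395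
theorem d477 : PP 11 [(128, 4, 3), (64, 32, 12), (32, 8, 7), (16, 16, 3)] := PP.split c399 c400
theorem d478 : PP 11 [(128, 2, 1), (64, 32, 12), (32, 8, 7), (16, 16, 3)] := PP.split c398 d477
theorem d479 : PP 11 [(128, 1, 0), (64, 32, 12), (32, 8, 7), (16, 16, 3)] := PP.split c397 d478
theorem d480 : PP 11 [(64, 32, 12), (32, 8, 7), (16, 16, 3)] := PP.deep 128 d479
theorem d481 : PP 11 [(64, 16, 12), (32, 8, 7), (16, 16, 3)] := PP.split d480 c401
theorem d482 : PP 11 [(64, 8, 4), (32, 8, 7), (16, 16, 3)] := PP.split c396 d481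
theorem d483 : PP 11 [(64, 4, 0), (32, 8, 7), (16, 16, 3)] := PP.split d476 d482
theorem d484 : PP 11 [(128, 1, 0), (64, 16, 6), (32, 8, 7), (16, 16, 3)] := PP.split c403 c404
theorem d485 : PP 11 [(64, 16, 6), (32, 8, 7), (16, 16, 3)] := PP.deep 128 d484
theorem d486 : PP 11 [(64, 8, 6), (32, 8, 7), (16, 16, 3)] := PP.split d485 c405
theorem d487 : PP 11 [(64, 4, 2), (32, 8, 7), (16, 16, 3)] := PP.split c402 d486
theorem d488 : PP 11 [(64, 2, 0), (32, 8, 7), (16, 16, 3)] := PP.split d483 d487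
theorem d489 : PP 11 [(128, 1, 0), (64, 16, 13), (32, 8, 7), (16, 16, 3)] := PP.split c408 c409
theorem d490 : PP 11 [(64, 16, 13), (32, 8, 7), (16, 16, 3)] := PP.deep 128 d489
theorem d491 : PP 11 [(64, 8, 5), (32, 8, 7), (16, 16, 3)] := PP.split c407 d490
theorem d492 : PP 11 [(64, 4, 1), (32, 8, 7), (16, 16, 3)] := PP.split c406 d491
theorem d493 : PP 11 [(128, 4, 2), (64, 16, 3), (32, 8, 7), (16, 16, 3)] := PP.split c411 c412
theorem d494 : PP 11 [(128, 2, 0), (64, 16, 3), (32, 8, 7), (16, 16, 3)] := PP.split c410 d493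
theorem d495 : PP 11 [(128, 2, 1), (64, 16, 3), (32, 8, 7), (16, 16, 3)] := PP.split c413 c414
theorem d496 : PP 11 [(128, 1, 0), (64, 16, 3), (32, 8, 7), (16, 16, 3)] := PP.split d494 d495
theorem d497 : PP 11 [(64, 16, 3), (32, 8, 7), (16, 16, 3)] := PP.deep 128 d496
theorem d498 : PP 11 [(128, 1, 0), (64, 16, 11), (32, 8, 7), (16, 16, 3)] := PP.split c415 c416
theorem d499 : PP 11 [(64, 16, 11), (32, 8, 7), (16, 16, 3)] := PP.deep 128 d498
theorem d500 : PP 11 [(64, 8, 3), (32, 8, 7), (16, 16, 3)] := PP.split d497 d499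
theorem d501 : PP 11 [(64, 4, 3), (32, 8, 7), (16, 16, 3)] := PP.split d500 c417
theorem d502 : PP 11 [(64, 2, 1), (32, 8, 7), (16, 16, 3)] := PP.split d492 d501
theorem d503 : PP 11 [(64, 1, 0), (32, 8, 7), (16, 16, 3)] := PP.split d488 d502
theorem d504 : PP 11 [(32, 8, 7), (16, 16, 3)] := PP.deep 64 d503
theorem d505 : PP 11 [(32, 4, 3), (16, 16, 3)] := PP.split d472 d504
theorem d506 : PP 11 [(32, 2, 1), (16, 16, 3)] := PP.split d468 d505
theorem d507 : PP 11 [(32, 1, 0), (16, 16, 3)] := PP.split d451 d506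
theorem d508 : PP 11 [(16, 16, 3)] := PP.deep 32 d507
theorem d509 : PP 11 [(64, 1, 0), (32, 8, 0), (16, 16, 11)] := PP.split c418 c419
theorem d510 : PP 11 [(32, 8, 0), (16, 16, 11)] := PP.deep 64 d509
theorem d511 : PP 11 [(32, 4, 0), (16, 16, 11)] := PP.split d510 c420
theorem d512 : PP 11 [(64, 1, 0), (32, 16, 2), (16, 16, 11)] := PP.split c421 c422
theorem d513 : PP 11 [(32, 16, 2), (16, 16, 11)] := PP.deep 64 d512
theorem d514 : PP 11 [(64, 1, 0), (32, 16, 10), (16, 16, 11)] := PP.split c423 c424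
theorem d515 : PP 11 [(32, 16, 10), (16, 16, 11)] := PP.deep 64 d514
theorem d516 : PP 11 [(32, 8, 2), (16, 16, 11)] := PP.split d513 d515
theorem d517 : PP 11 [(64, 4, 0), (32, 8, 6), (16, 16, 11)] := PP.split c425 c426
theorem d518 : PP 11 [(64, 2, 0), (32, 8, 6), (16, 16, 11)] := PP.split d517 c427
theorem d519 : PP 11 [(64, 1, 0), (32, 8, 6), (16, 16, 11)] := PP.split d518 c428
theorem d520 : PP 11 [(32, 8, 6), (16, 16, 11)] := PP.deep 64 d519
theorem d521 : PP 11 [(32, 4, 2), (16, 16, 11)] := PP.split d516 d520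
theorem d522 : PP 11 [(32, 2, 0), (16, 16, 11)] := PP.split d511 d521
theorem d523 : PP 11 [(64, 2, 1), (32, 32, 9), (16, 16, 11)] := PP.split c431 c432
theorem d524 : PP 11 [(64, 1, 0), (32, 32, 9), (16, 16, 11)] := PP.split c430 d523
theorem d525 : PP 11 [(32, 32, 9), (16, 16, 11)] := PP.deep 64 d524
theorem d526 : PP 11 [(256, 2, 0), (128, 128, 17), (64, 8, 2), (32, 64, 25), (16, 16, 11)] := PP.split c436 c437
theorem d527 : PP 11 [(256, 1, 0), (128, 128, 17), (64, 8, 2), (32, 64, 25), (16, 16, 11)] := PP.split d526 c438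
theorem d528 : PP 11 [(128, 128, 17), (64, 8, 2), (32, 64, 25), (16, 16, 11)] := PP.deep 256 d527
theorem d529 : PP 11 [(128, 64, 17), (64, 8, 2), (32, 64, 25), (16, 16, 11)] := PP.split d528 c439
theorem d530 : PP 11 [(128, 32, 17), (64, 8, 2), (32, 64, 25), (16, 16, 11)] := PP.split d529 c440
theorem d531 : PP 11 [(128, 16, 1), (64, 8, 2), (32, 64, 25), (16, 16, 11)] := PP.split c435 d530
theorem d532 : PP 11 [(128, 8, 1), (64, 8, 2), (32, 64, 25), (16, 16, 11)] := PP.split d531 c441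
theorem d533 : PP 11 [(128, 4, 1), (64, 8, 2), (32, 64, 25), (16, 16, 11)] := PP.split d532 c442
theorem d534 : PP 11 [(128, 2, 1), (64, 8, 2), (32, 64, 25), (16, 16, 11)] := PP.split d533 c443
theorem d535 : PP 11 [(128, 1, 0), (64, 8, 2), (32, 64, 25), (16, 16, 11)] := PP.split c434 d534
theorem d536 : PP 11 [(64, 8, 2), (32, 64, 25), (16, 16, 11)] := PP.deep 128 d535
theorem d537 : PP 11 [(128, 4, 0), (64, 128, 78), (32, 64, 25), (16, 16, 11)] := PP.split c446 c447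
theorem d538 : PP 11 [(128, 4, 2), (64, 128, 78), (32, 64, 25), (16, 16, 11)] := PP.split c448 c449
theorem d539 : PP 11 [(128, 2, 0), (64, 128, 78), (32, 64, 25), (16, 16, 11)] := PP.split d537 d538
theorem d540 : PP 11 [(128, 1, 0), (64, 128, 78), (32, 64, 25), (16, 16, 11)] := PP.split d539 c450
theorem d541 : PP 11 [(64, 128, 78), (32, 64, 25), (16, 16, 11)] := PP.deep 128 d540
theorem d542 : PP 11 [(64, 64, 14), (32, 64, 25), (16, 16, 11)] := PP.split c445 d541
theorem d543 : PP 11 [(64, 32, 14), (32, 64, 25), (16, 16, 11)] := PP.split d542 c451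
theorem d544 : PP 11 [(64, 16, 14), (32, 64, 25), (16, 16, 11)] := PP.split d543 c452
theorem d545 : PP 11 [(64, 8, 6), (32, 64, 25), (16, 16, 11)] := PP.split c444 d544
theorem d546 : PP 11 [(64, 4, 2), (32, 64, 25), (16, 16, 11)] := PP.split d536 d545
theorem d547 : PP 11 [(64, 2, 0), (32, 64, 25), (16, 16, 11)] := PP.split c433 d546
theorem d548 : PP 11 [(128, 1, 0), (64, 16, 15), (32, 64, 25), (16, 16, 11)] := PP.split c456 c457
theorem d549 : PP 11 [(64, 16, 15), (32, 64, 25), (16, 16, 11)] := PP.deep 128 d548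
theorem d550 : PP 11 [(64, 8, 7), (32, 64, 25), (16, 16, 11)] := PP.split c455 d549
theorem d551 : PP 11 [(64, 4, 3), (32, 64, 25), (16, 16, 11)] := PP.split c454 d550
theorem d552 : PP 11 [(64, 2, 1), (32, 64, 25), (16, 16, 11)] := PP.split c453 d551
theorem d553 : PP 11 [(64, 1, 0), (32, 64, 25), (16, 16, 11)] := PP.split d547 d552
theorem d554 : PP 11 [(32, 64, 25), (16, 16, 11)] := PP.deep 64 d553
theorem d555 : PP 11 [(32, 32, 25), (16, 16, 11)] := PP.split d554 c458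
theorem d556 : PP 11 [(32, 16, 9), (16, 16, 11)] := PP.split d525 d555
theorem d557 : PP 11 [(32, 8, 1), (16, 16, 11)] := PP.split c429 d556
theorem d558 : PP 11 [(64, 1, 0), (32, 16, 5), (16, 16, 11)] := PP.split c459 c460
theorem d559 : PP 11 [(32, 16, 5), (16, 16, 11)] := PP.deep 64 d558
theorem d560 : PP 11 [(32, 8, 5), (16, 16, 11)] := PP.split d559 c461
theorem d561 : PP 11 [(32, 4, 1), (16, 16, 11)] := PP.split d557 d560
theorem d562 : PP 11 [(64, 1, 0), (32, 8, 3), (16, 16, 11)] := PP.split c462 c463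
theorem d563 : PP 11 [(32, 8, 3), (16, 16, 11)] := PP.deep 64 d562
theorem d564 : PP 11 [(64, 4, 0), (32, 64, 39), (16, 16, 11)] := PP.split c465 c466
theorem d565 : PP 11 [(64, 2, 0), (32, 64, 39), (16, 16, 11)] := PP.split d564 c467
theorem d566 : PP 11 [(128, 2, 1), (64, 128, 97), (32, 64, 39), (16, 16, 11)] := PP.split c471 c472
theorem d567 : PP 11 [(128, 1, 0), (64, 128, 97), (32, 64, 39), (16, 16, 11)] := PP.split c470 d566
theorem d568 : PP 11 [(64, 128, 97), (32, 64, 39), (16, 16, 11)] := PP.deep 128 d567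
theorem d569 : PP 11 [(64, 64, 33), (32, 64, 39), (16, 16, 11)] := PP.split c469 d568
theorem d570 : PP 11 [(64, 32, 1), (32, 64, 39), (16, 16, 11)] := PP.split c468 d569
theorem d571 : PP 11 [(64, 16, 1), (32, 64, 39), (16, 16, 11)] := PP.split d570 c473
theorem d572 : PP 11 [(64, 8, 1), (32, 64, 39), (16, 16, 11)] := PP.split d571 c474
theorem d573 : PP 11 [(64, 4, 1), (32, 64, 39), (16, 16, 11)] := PP.split d572 c475
theorem d574 : PP 11 [(256, 2, 0), (128, 128, 125), (64, 128, 83), (32, 64, 39), (16, 16, 11)] := PP.split c484 c485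
theorem d575 : PP 11 [(256, 1, 0), (128, 128, 125), (64, 128, 83), (32, 64, 39), (16, 16, 11)] := PP.split d574 c486
theorem d576 : PP 11 [(128, 128, 125), (64, 128, 83), (32, 64, 39), (16, 16, 11)] := PP.deep 256 d575
theorem d577 : PP 11 [(128, 64, 61), (64, 128, 83), (32, 64, 39), (16, 16, 11)] := PP.split c483 d576
theorem d578 : PP 11 [(128, 32, 29), (64, 128, 83), (32, 64, 39), (16, 16, 11)] := PP.split c482 d577
theorem d579 : PP 11 [(128, 16, 13), (64, 128, 83), (32, 64, 39), (16, 16, 11)] := PP.split c481 d578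
theorem d580 : PP 11 [(128, 8, 5), (64, 128, 83), (32, 64, 39), (16, 16, 11)] := PP.split c480 d579
theorem d581 : PP 11 [(128, 4, 1), (64, 128, 83), (32, 64, 39), (16, 16, 11)] := PP.split c479 d580
theorem d582 : PP 11 [(128, 2, 1), (64, 128, 83), (32, 64, 39), (16, 16, 11)] := PP.split d581 c487
theorem d583 : PP 11 [(128, 1, 0), (64, 128, 83), (32, 64, 39), (16, 16, 11)] := PP.split c478 d582
theorem d584 : PP 11 [(64, 128, 83), (32, 64, 39), (16, 16, 11)] := PP.deep 128 d583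
theorem d585 : PP 11 [(64, 64, 19), (32, 64, 39), (16, 16, 11)] := PP.split c477 d584
theorem d586 : PP 11 [(64, 32, 19), (32, 64, 39), (16, 16, 11)] := PP.split d585 c488
theorem d587 : PP 11 [(64, 16, 3), (32, 64, 39), (16, 16, 11)] := PP.split c476 d586
theorem d588 : PP 11 [(64, 8, 3), (32, 64, 39), (16, 16, 11)] := PP.split d587 c489
theorem d589 : PP 11 [(64, 4, 3), (32, 64, 39), (16, 16, 11)] := PP.split d588 c490
theorem d590 : PP 11 [(64, 2, 1), (32, 64, 39), (16, 16, 11)] := PP.split d573 d589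
theorem d591 : PP 11 [(64, 1, 0), (32, 64, 39), (16, 16, 11)] := PP.split d565 d590
theorem d592 : PP 11 [(32, 64, 39), (16, 16, 11)] := PP.deep 64 d591
theorem d593 : PP 11 [(32, 32, 7), (16, 16, 11)] := PP.split c464 d592
theorem d594 : PP 11 [(32, 16, 7), (16, 16, 11)] := PP.split d593 c491
theorem d595 : PP 11 [(32, 8, 7), (16, 16, 11)] := PP.split d594 c492
theorem d596 : PP 11 [(32, 4, 3), (16, 16, 11)] := PP.split d563 d595
theorem d597 : PP 11 [(32, 2, 1), (16, 16, 11)] := PP.split d561 d596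
theorem d598 : PP 11 [(32, 1, 0), (16, 16, 11)] := PP.split d522 d597
theorem d599 : PP 11 [(16, 16, 11)] := PP.deep 32 d598
theorem d600 : PP 11 [(16, 8, 3)] := PP.split d508 d599
theorem d601 : PP 11 [(32, 2, 0), (16, 16, 15)] := PP.split c494 c495
theorem d602 : PP 11 [(32, 1, 0), (16, 16, 15)] := PP.split d601 c496
theorem d603 : PP 11 [(16, 16, 15)] := PP.deep 32 d602
theorem d604 : PP 11 [(16, 8, 7)] := PP.split c493 d603
theorem d605 : PP 11 [(16, 4, 3)] := PP.split d600 d604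
theorem d606 : PP 11 [(16, 2, 1)] := PP.split d381 d605
theorem d607 : PP 11 [(16, 1, 0)] := PP.split d291 d606
theorem d608 : PP 11 [] := PP.deep 16 d607

theorem all : PP 11 [] := d608

end H56.K.R11
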